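import Cfsg.Agent.H380.RC.Rules

/-!
# S3509, alternating socle: basic rules for covers in symmetric groups (helper555)

* `cj σ H` : the conjugate of the subgroup `H`;
* `altOn E` : the even permutations with support in `E`;
* `kill` : the rule to remove a member of a cover;
* `cover_cj` : the local cover rule, for conjugates of a subgroup.
-/

set_option autoImplicit false

namespace Cfsg.Agent.H555.RA

open Equiv Equiv.Perm

section cj

variable {S : Type*} [Group S]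

/-- conjugate of a subgroup -/
def cj (σ : S) (H : Subgroup S) : Subgroup S := H.map (MulAut.conj σ).toMonoidHom

theorem mem_cj {σ : S} {H : Subgroup S} {x : S} : x ∈ cj σ H ↔ σ⁻¹ * x * σ ∈ H := by
  rw [cj, Subgroup.mem_map]
  constructor
  · rintro ⟨y, hy, rfl⟩
    have : σ⁻¹ * (MulAut.conj σ).toMonoidHom y * σ = y := by
      change σ⁻¹ * (σ * y * σ⁻¹) * σ = y
      group
    rwa [this]
  · intro h
    refine ⟨_, h, ?_⟩
    change σ * (σ⁻¹ * x * σ) * σ⁻¹ = x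
    group

theorem cj_cj (σ τ : S) (H : Subgroup S) : cj σ (cj τ H) = cj (σ * τ) H := by
  ext x
  rw [mem_cj, mem_cj, mem_cj]
  have : (σ * τ)⁻¹ * x * (σ * τ) = τ⁻¹ * (σ⁻¹ * x * σ) * τ := by group
  rw [this]

theorem cj_one (H : Subgroup S) : cj 1 H = H := by
  ext x
  rw [mem_cj, inv_one, one_mul, mul_one]

/-- the local cover rule in terms of conjugates -/
theorem cover_cj {ι : Type*} [Finite ι] {x : ι → S} {r : ι → ℕ} (hr : ∀ i, (r i).Prime) (hx : ∀ i, x i ^ r i = 1)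
    (hc : ∀ i j, x i * x j = x j * x i) {U : Subgroup S} [Finite U] {H : Subgroup S}
    (hcov : ∀ u ∈ U, ∃ i, u⁻¹ * x i * u ∈ H) (hU : ∀ i, ∀ u ∈ U, x i * u * (x i)⁻¹ ∈ U)
    (hUa : ∀ u ∈ U, ∀ v ∈ U, u * v = v * u)
    (hUr : ∀ i j, ¬ (r i).Coprime (Nat.card U) → ¬ (r j).Coprime (Nat.card U) → i = j) :
    ∃ i, ∀ u ∈ U, u⁻¹ * x i * u ∈ H := by
  have key : ∀ (i : ι) (u : S), x i • u • ((1 : S) : S ⧸ H) = u • ((1 : S) : S ⧸ H) ↔ u⁻¹ * x i * u ∈ H := by
    intro i u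
    have h1 : x i • u • ((1 : S) : S ⧸ H) = ((x i * (u * 1) : S) : S ⧸ H) := rfl
    have h2 : u • ((1 : S) : S ⧸ H) = ((u * 1 : S) : S ⧸ H) := rfl
    rw [h1, h2, eq_comm, QuotientGroup.eq]
    have h3 : (u * 1)⁻¹ * (x i * (u * 1)) = u⁻¹ * x i * u := by group
    rw [h3]
  obtain ⟨i, hi⟩ := Cfsg.Agent.H380.RC.cover_loc (Ω := S ⧸ H) hr hx hc (U := U) (ω := ((1 : S) : S ⧸ H))
    (fun u hu => by
      obtain ⟨i, hi⟩ := hcov u hu
      exact ⟨i, (key i u).2 hi⟩) hU (Or.inl ⟨hUa, hUr⟩)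
  exact ⟨i, fun u hu => (key i u).1 (hi u hu)⟩

end cj

section alt

variable {α : Type*} [Fintype α] [DecidableEq α]

omit [Fintype α] [DecidableEq α] in
theorem pai (f : Perm α) (x : α) : f (f⁻¹ x) = x := f.apply_symm_apply x

omit [Fintype α] [DecidableEq α] in
theorem pia (f : Perm α) (x : α) : f⁻¹ (f x) = x := f.symm_apply_apply x

/-- even permutations with support in `E` -/
def altOn (E : Finset α) : Subgroup (Perm α) where
  carrier := {σ | sign σ = 1 ∧ ∀ v, v ∉ E → σ v = v}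
  one_mem' := ⟨sign_one, fun _ _ => rfl⟩
  mul_mem' {a b} ha hb := ⟨by rw [Perm.sign_mul, ha.1, hb.1, one_mul], fun v hv => by
    rw [Perm.mul_apply, hb.2 v hv, ha.2 v hv]⟩
  inv_mem' {a} ha := ⟨by rw [sign_inv, ha.1], fun v hv => by
    rw [Perm.inv_eq_iff_eq, ha.2 v hv]⟩

theorem mem_altOn {E : Finset α} {σ : Perm α} : σ ∈ altOn E ↔ sign σ = 1 ∧ ∀ v, v ∉ E → σ v = v := Iff.rfl

theorem altOn_apply_mem {E : Finset α} {σ : Perm α} (h : σ ∈ altOn E) {v : α} (hv : v ∈ E) : σ v ∈ E := by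
  by_contra hno
  have h1 := h.2 _ hno
  have h2 := σ.injective h1
  rw [h2] at hno
  exact hno hv

/-- the three cycle `u ↦ v ↦ w ↦ u` -/
def c3 (u v w : α) : Perm α := swap u v * swap v w

theorem c3_conj (σ : Perm α) (u v w : α) : σ * c3 u v w * σ⁻¹ = c3 (σ u) (σ v) (σ w) := by
  rw [c3, c3, swap_apply_apply, swap_apply_apply]
  group

theorem c3_mem_altOn {E : Finset α} {u v w : α} (huv : u ≠ v) (hvw : v ≠ w) (hu : u ∈ E) (hv : v ∈ E) (hw : w ∈ E) :
    c3 u v w ∈ altOn E := by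
  refine ⟨?_, fun z hz => ?_⟩
  · rw [c3, Perm.sign_mul, sign_swap huv, sign_swap hvw]
    rfl
  · have h1 : z ≠ u := fun h => hz (h ▸ hu)
    have h2 : z ≠ v := fun h => hz (h ▸ hv)
    have h3 : z ≠ w := fun h => hz (h ▸ hw)
    rw [c3, Perm.mul_apply, swap_apply_of_ne_of_ne h2 h3, swap_apply_of_ne_of_ne h1 h2]

theorem c3_left {u v w : α} (huv : u ≠ v) (huw : u ≠ w) : c3 u v w u = v := by
  rw [c3, Perm.mul_apply, swap_apply_of_ne_of_ne huv huw, swap_apply_left]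

theorem c3_mid {u v w : α} (hvw : v ≠ w) (huw : u ≠ w) : c3 u v w v = w := by
  rw [c3, Perm.mul_apply, swap_apply_left, swap_apply_of_ne_of_ne huw.symm hvw.symm]

theorem c3_right {u v w : α} : c3 u v w w = u := by
  rw [c3, Perm.mul_apply, swap_apply_right, swap_apply_right]

/-- `H` contains a three cycle `(u v w)` -/
def R (H : Subgroup (Perm α)) (u v : α) : Prop := u ≠ v ∧ ∃ w, w ≠ u ∧ w ≠ v ∧ c3 u v w ∈ H

theorem R_cj {σ : Perm α} {H : Subgroup (Perm α)} {u v : α} (h1 : σ u = u) (h2 : σ v = v) (h : R (cj σ H) u v) :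
    R H u v := by
  obtain ⟨huv, w, hu, hv, hw⟩ := h
  have h1' : σ⁻¹ u = u := by rw [Perm.inv_eq_iff_eq, h1]
  have h2' : σ⁻¹ v = v := by rw [Perm.inv_eq_iff_eq, h2]
  refine ⟨huv, σ⁻¹ w, fun h => hu ?_, fun h => hv ?_, ?_⟩
  · rw [Perm.inv_eq_iff_eq, h1] at h
    exact h
  · rw [Perm.inv_eq_iff_eq, h2] at h
    exact h
  · rw [mem_cj] at hw
    have h3 := c3_conj σ⁻¹ u v w
    rw [h1', h2', inv_inv] at h3
    rwa [h3] at hw

theorem R_of_altOn {E : Finset α} {H : Subgroup (Perm α)} (hE : 3 ≤ E.card) (h : altOn E ≤ H) {u v : α} (hu : u ∈ E)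
    (hv : v ∈ E) (huv : u ≠ v) : R H u v := by
  obtain ⟨w, hw⟩ : ∃ w, w ∈ (E.erase u).erase v := by
    apply Finset.card_pos.1
    rw [Finset.card_erase_of_mem (Finset.mem_erase.2 ⟨huv.symm, hv⟩), Finset.card_erase_of_mem hu]
    omega
  rw [Finset.mem_erase, Finset.mem_erase] at hw
  exact ⟨huv, w, hw.2.1, hw.1, h (c3_mem_altOn huv hw.1.symm hu hv hw.2.2)⟩

/-- the embedding of the alternating group of `E` -/
def altHom (E : Finset α) : alternatingGroup E →* Perm α := (ofSubtype (p := (· ∈ E))).comp (alternatingGroup E).subtype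

theorem altHom_range (E : Finset α) : (altHom E).range = altOn E := by
  apply le_antisymm
  · rintro _ ⟨τ, rfl⟩
    refine ⟨?_, fun v hv => ?_⟩
    · change sign (ofSubtype (τ : Perm E)) = 1
      rw [sign_ofSubtype]
      exact τ.2
    · exact ofSubtype_apply_of_not_mem _ hv
  · intro σ hσ
    have h1 : ∀ v, σ v ∈ E ↔ v ∈ E := fun v => ⟨fun hv => by
      have := altOn_apply_mem ((altOn E).inv_mem hσ) hv
      rwa [pia] at this, fun hv => altOn_apply_mem hσ hv⟩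
    have h2 : ofSubtype (σ.subtypePerm h1) = σ := ofSubtype_subtypePerm _ (by
      intro v hv
      by_contra hno
      exact hv (hσ.2 v hno))
    have h3 : sign (σ.subtypePerm h1) = 1 := by
      rw [← sign_ofSubtype, h2]
      exact hσ.1
    exact ⟨⟨σ.subtypePerm h1, h3⟩, h2⟩

/-- simplicity of `altOn E` -/
theorem altOn_le_of_normal {E : Finset α} (hE : 5 ≤ E.card) {K : Subgroup (Perm α)} {τ : Perm α} (hτ : τ ∈ altOn E)
    (hτK : τ ∈ K) (hτ1 : τ ≠ 1) (hn : ∀ ρ ∈ altOn E, ∀ κ ∈ K, κ ∈ altOn E → ρ * κ * ρ⁻¹ ∈ K) : altOn E ≤ K := by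
  have hs : IsSimpleGroup (alternatingGroup E) := alternatingGroup.isSimpleGroup (by
    rw [Nat.card_eq_fintype_card, Fintype.card_coe]
    exact hE)
  have hN : (K.comap (altHom E)).Normal := by
    constructor
    intro κ hκ ρ
    rw [Subgroup.mem_comap] at hκ ⊢
    rw [map_mul, map_mul, map_inv]
    refine hn _ ?_ _ hκ ?_
    · rw [← altHom_range]; exact ⟨ρ, rfl⟩
    · rw [← altHom_range]; exact ⟨κ, rfl⟩
  rw [← altHom_range] at hτ
  obtain ⟨t, rfl⟩ := hτ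
  rcases hs.eq_bot_or_eq_top_of_normal _ hN with h | h
  · exfalso
    apply hτ1
    have : t ∈ K.comap (altHom E) := hτK
    rw [h, Subgroup.mem_bot] at this
    rw [this, map_one]
  · rw [← altHom_range]
    rintro _ ⟨s, rfl⟩
    have : s ∈ K.comap (altHom E) := by rw [h]; trivial
    exact this

/-- closed under conjugation with even permutations -/
def Cl (X : Set (Subgroup (Perm α))) : Prop := ∀ σ : Perm α, sign σ = 1 → ∀ H ∈ X, cj σ H ∈ X

/-- **Kill rule.** -/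
theorem kill {X : Set (Subgroup (Perm α))} (hX : Cl X) {B : Subgroup (Perm α) → Prop} {E : Finset α} {x : Perm α}
    (hE : 5 ≤ E.card) (hxE : ∀ v ∈ E, x v ∈ E) {e : α} (he : e ∈ E) (hxe : x e ≠ e)
    (hB : ∀ σ ∈ altOn E, ∀ H, B (cj σ H) → B H) (hcov : ∀ H ∈ X, B H ∨ x ∈ H) :
    ∀ H ∈ X, B H ∨ altOn E ≤ H := by
  intro H hH
  by_cases hBH : B H
  · exact Or.inl hBH
  right
  have h1 : ∀ σ ∈ altOn E, σ⁻¹ * x * σ ∈ H := by
    intro σ hσ
    rcases hcov _ (hX σ hσ.1 H hH) with h | h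
    · exact absurd (hB σ hσ H h) hBH
    · exact mem_cj.1 h
  have h1x : x ∈ H := by
    have := h1 1 (altOn E).one_mem
    rwa [inv_one, one_mul, mul_one] at this
  have hxE' : ∀ v, v ∈ E ↔ x v ∈ E := by
    intro v
    refine ⟨hxE v, fun hv => ?_⟩
    have h2 : ∀ k : ℕ, ∀ v ∈ E, (x ^ k) v ∈ E := by
      intro k
      induction k with
      | zero => intro v hv; exact hv
      | succ k ih => intro v hv; rw [pow_succ', Perm.mul_apply]; exact hxE _ (ih v hv)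
    have h3 := h2 (orderOf x - 1) _ hv
    have h4 : (x ^ (orderOf x - 1)) (x v) = v := by
      rw [← Perm.mul_apply, ← pow_succ, Nat.sub_add_cancel (orderOf_pos x), pow_orderOf_eq_one]
      rfl
    rwa [h4] at h3
  have hxc : ∀ σ ∈ altOn E, x * σ * x⁻¹ ∈ altOn E := by
    intro σ hσ
    refine ⟨?_, fun v hv => ?_⟩
    · rw [Perm.sign_mul, Perm.sign_mul, hσ.1, sign_inv, mul_one, ← sq, Int.units_sq]
    · have h2 : x⁻¹ v ∉ E := fun h => hv (by
        have := hxE _ h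
        rwa [pai] at this)
      rw [Perm.mul_apply, Perm.mul_apply, hσ.2 _ h2, pai]
  -- the elements whose conjugates are in `H`
  let K : Subgroup (Perm α) :=
    { carrier := {τ | ∀ σ ∈ altOn E, σ⁻¹ * τ * σ ∈ H}
      one_mem' := fun σ _ => by
        rw [mul_one, inv_mul_cancel]; exact H.one_mem
      mul_mem' := fun {a b} ha hb σ hσ => by
        have : σ⁻¹ * (a * b) * σ = (σ⁻¹ * a * σ) * (σ⁻¹ * b * σ) := by group
        rw [this]; exact H.mul_mem (ha σ hσ) (hb σ hσ)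
      inv_mem' := fun {a} ha σ hσ => by
        have : σ⁻¹ * a⁻¹ * σ = (σ⁻¹ * a * σ)⁻¹ := by group
        rw [this]; exact H.inv_mem (ha σ hσ) }
  have hK : ∀ τ, τ ∈ K ↔ ∀ σ ∈ altOn E, σ⁻¹ * τ * σ ∈ H := fun _ => Iff.rfl
  -- a nontrivial element
  obtain ⟨f, hf⟩ : ∃ f, f ∈ (E.erase e).erase (x e) := by
    apply Finset.card_pos.1
    rw [Finset.card_erase_of_mem (Finset.mem_erase.2 ⟨hxe, hxE e he⟩), Finset.card_erase_of_mem he]
    omega
  rw [Finset.mem_erase, Finset.mem_erase] at hf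
  obtain ⟨g, hg⟩ : ∃ g, g ∈ ((E.erase e).erase (x e)).erase f := by
    apply Finset.card_pos.1
    rw [Finset.card_erase_of_mem (Finset.mem_erase.2 ⟨hf.1, Finset.mem_erase.2 ⟨hf.2.1, hf.2.2⟩⟩),
      Finset.card_erase_of_mem (Finset.mem_erase.2 ⟨hxe, hxE e he⟩), Finset.card_erase_of_mem he]
    omega
  rw [Finset.mem_erase, Finset.mem_erase, Finset.mem_erase] at hg
  obtain ⟨σ, hσ, hσe, hσx⟩ : ∃ σ ∈ altOn E, σ e = e ∧ σ (x e) = f := by
    refine ⟨c3 (x e) f g, c3_mem_altOn hf.1.symm hg.1.symm (hxE e he) hf.2.2 hg.2.2.2, ?_, ?_⟩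
    · rw [c3, Perm.mul_apply, swap_apply_of_ne_of_ne hf.2.1.symm hg.2.2.1.symm,
        swap_apply_of_ne_of_ne hxe.symm hf.2.1.symm]
    · exact c3_left hf.1.symm hg.2.1.symm
  have hτ : σ⁻¹ * (x * σ * x⁻¹) ∈ altOn E := (altOn E).mul_mem ((altOn E).inv_mem hσ) (hxc σ hσ)
  have hτK : σ⁻¹ * (x * σ * x⁻¹) ∈ K := by
    intro ρ hρ
    have h2 := H.mul_mem (h1 (σ * ρ) ((altOn E).mul_mem hσ hρ)) (H.inv_mem (h1 ρ hρ))
    have h3 : (σ * ρ)⁻¹ * x * (σ * ρ) * (ρ⁻¹ * x * ρ)⁻¹ = ρ⁻¹ * (σ⁻¹ * (x * σ * x⁻¹)) * ρ := by group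
    rwa [h3] at h2
  have hτ1 : σ⁻¹ * (x * σ * x⁻¹) ≠ 1 := by
    intro h2
    rw [inv_mul_eq_one, eq_mul_inv_iff_mul_eq] at h2
    have h3 := congrArg (fun z : Perm α => z e) h2
    change σ (x e) = x (σ e) at h3
    rw [hσx, hσe] at h3
    exact hf.1 h3
  have h2 : altOn E ≤ K := altOn_le_of_normal hE hτ hτK hτ1 fun ρ hρ κ hκ _ σ hσ => by
    have h3 := hκ (ρ⁻¹ * σ) ((altOn E).mul_mem ((altOn E).inv_mem hρ) hσ)
    have h4 : (ρ⁻¹ * σ)⁻¹ * κ * (ρ⁻¹ * σ) = σ⁻¹ * (ρ * κ * ρ⁻¹) * σ := by group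
    rwa [h4] at h3
  intro τ hτ
  have h3 := h2 hτ 1 (altOn E).one_mem
  rwa [inv_one, one_mul, mul_one] at h3

/-- invariance of the fixed members -/
theorem mem_of_cj_comm {σ y : Perm α} {H : Subgroup (Perm α)} (hc : σ * y = y * σ) (h : y ∈ cj σ H) : y ∈ H := by
  rw [mem_cj, mul_assoc, ← hc, inv_mul_cancel_left] at h
  exact h

/-- permutations with disjoint supports commute -/
theorem altOn_comm {E : Finset α} {σ y : Perm α} (hσ : σ ∈ altOn E) (hy : ∀ v ∈ E, y v = v) : σ * y = y * σ := by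
  ext v
  rw [Perm.mul_apply, Perm.mul_apply]
  by_cases hv : v ∈ E
  · rw [hy v hv, hy _ (altOn_apply_mem hσ hv)]
  · rw [hσ.2 v hv]
    have h1 : y v ∉ E := fun h => by
      have h2 := hy _ h
      have h3 := y.injective h2
      rw [h3] at h
      exact hv h
    rw [hσ.2 _ h1]

end alt

end Cfsg.Agent.H555.RA
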