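import Cfsg.Agent.H555.RA.Step

/-!
# S3509, alternating socle: star shaped choices (helper555)
-/

set_option autoImplicit false
set_option linter.unusedSectionVars false

namespace Cfsg.Agent.H555.RA

open Equiv Equiv.Perm Cfsg.Agent.H106.RC

variable {α : Type*} [Fintype α] [DecidableEq α]

theorem exists_rep (K : Subgroup (Perm α)) :
    ∃ rep : α → α, (∀ v, ∃ g ∈ K, g v = rep v) ∧ ∀ u v, ∀ g ∈ K, g u = v → rep u = rep v := by
  let st := MulAction.orbitRel K α
  refine ⟨fun v => (Quotient.mk st v).out, fun v => ?_, fun u v g hg h => ?_⟩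
  · have h1 : st (Quotient.mk st v).out v := Quotient.mk_out v
    obtain ⟨⟨g, hg⟩, h2⟩ := h1
    exact ⟨g, hg, h2⟩
  · have h1 : Quotient.mk st u = Quotient.mk st v := by
      apply Quotient.sound
      exact ⟨⟨g⁻¹, K.inv_mem hg⟩, by
        change g⁻¹ v = u
        rw [← h, pia]⟩
    change (Quotient.mk st u).out = (Quotient.mk st v).out
    rw [h1]

section

variable {ι : Type*} [Finite ι] [DecidableEq ι] {x : ι → Perm α} {r : ι → ℕ}

theorem not_dvd_prime (hx : PF x r) {j i : ι} (h : j ≠ i) : ¬ r j ∣ r i := fun hd =>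
  h (hx.inj ((Nat.prime_dvd_prime_iff_eq (hx.prime j) (hx.prime i)).1 hd))

theorem f1 (hx : PF x r) {i j : ι} (hij : j ≠ i) {u : α} (hu : x j u ≠ u) {a : ℕ} (ha : ¬ r j ∣ a) :
    ¬ SameCycle (x i) u ((x j ^ a) u) := by
  rintro ⟨m, hm⟩
  apply hu
  refine fix_of_eq (h := x i ^ m) (N := r i) (hx.pow j) ?_ ?_ (hx.prime j) ?_ hm.symm
  · exact ((show Commute (x j) (x i) from hx.comm j i).zpow_right m).eq
  · rw [← zpow_natCast, ← zpow_mul, mul_comm, zpow_mul, zpow_natCast, hx.pow i, one_zpow]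
  · intro h
    rcases (hx.prime j).dvd_mul.1 h with h | h
    · exact ha h
    · exact not_dvd_prime hx hij h

theorem f2 (hx : PF x r) {i j k : ι} (hij : j ≠ i) (hjk : j ≠ k) {u : α} (hu : x j u ≠ u) {a : ℕ}
    (ha : ¬ r j ∣ a) : ¬ SameCycle (x i) (x k u) ((x j ^ a) u) := by
  rintro ⟨m, hm⟩
  apply hu
  have hc1 : Commute (x i ^ m) (x k) := (show Commute (x i) (x k) from hx.comm i k).zpow_left m
  refine fix_of_eq (h := x i ^ m * x k) (N := r i * r k) (hx.pow j) ?_ ?_ (hx.prime j) ?_ hm.symm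
  · exact (((show Commute (x j) (x i) from hx.comm j i).zpow_right m).mul_right (show Commute (x j) (x k) from hx.comm j k)).eq
  · have h1 : (x i ^ m) ^ r i = 1 := by
      rw [← zpow_natCast, ← zpow_mul, mul_comm, zpow_mul, zpow_natCast, hx.pow i, one_zpow]
    rw [hc1.mul_pow, pow_mul, pow_mul' (x k), hx.pow k, one_pow, mul_one, h1, one_pow]
  · intro h
    rcases (hx.prime j).dvd_mul.1 h with h | h
    · exact ha h
    · rcases (hx.prime j).dvd_mul.1 h with h | h
      · exact not_dvd_prime hx hij h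
      · exact not_dvd_prime hx hjk h

theorem f3 (hx : PF x r) {i j : ι} (hij : j ≠ i) {u : α} (hu : x j u ≠ u) {a b : ℕ}
    (hb : ¬ r j ∣ b) : ¬ SameCycle (x i) ((x j ^ a) u) ((x j ^ (a + b)) u) := by
  intro h
  rw [pow_add, Perm.mul_apply] at h
  have hc : x j ^ a * x i = x i * x j ^ a := ((show Commute (x j) (x i) from hx.comm j i).pow_left a).eq
  exact f1 hx hij hu hb ((sc_conj hc).1 h)

/-- the star shaped choice -/
structure Star' (x : ι → Perm α) (i : ι) (J : Finset ι) (u : ι → α) : Prop extends Star x i J u where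
  h4 : ∀ j ∈ J, x j (u j) ≠ u j
  h5 : ∀ j ∈ J, ∀ k ∈ J, ∀ g ∈ Subgroup.closure (Set.range x), g (u j) = u k → u j = u k

theorem exists_star (hx : PF x r) (i : ι) (J : Finset ι) (hJ : ∀ j ∈ J, j ≠ i ∧ ∃ v, x i v ≠ v ∧ x j v ≠ v) [Nonempty α] :
    ∃ u : ι → α, Star' x i J u := by
  classical
  obtain ⟨rep, h1, h2⟩ := exists_rep (Subgroup.closure (Set.range x))
  have hv : ∀ j, ∃ v, j ∈ J → x i v ≠ v ∧ x j v ≠ v := by
    intro j
    by_cases hj : j ∈ J
    · obtain ⟨v, hv⟩ := (hJ j hj).2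
      exact ⟨v, fun _ => hv⟩
    · exact ⟨Classical.arbitrary α, fun h => absurd h hj⟩
  choose v hv using hv
  have hcm : ∀ g ∈ Subgroup.closure (Set.range x), ∀ j, x j * g = g * x j := by
    intro g hg j
    refine closure_comm (k := Set.range x) ?_ (Subgroup.subset_closure ⟨j, rfl⟩) hg
    rintro _ ⟨a, rfl⟩ _ ⟨b, rfl⟩
    exact hx.comm a b
  have hmem : ∀ j, x j ∈ Subgroup.closure (Set.range x) := fun j => Subgroup.subset_closure ⟨j, rfl⟩
  have hmv : ∀ j ∈ J, x i (rep (v j)) ≠ rep (v j) ∧ x j (rep (v j)) ≠ rep (v j) := by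
    intro j hj
    obtain ⟨g, hg, hg2⟩ := h1 (v j)
    have h3 : ∀ k, x k (v j) ≠ v j → x k (rep (v j)) ≠ rep (v j) := by
      intro k hk h
      apply hk
      apply g.injective
      rw [← hg2, ← Perm.mul_apply, hcm g hg, Perm.mul_apply] at h
      exact h
    exact ⟨h3 i (hv j hj).1, h3 j (hv j hj).2⟩
  have hrr : ∀ w, rep (rep w) = rep w := by
    intro w
    obtain ⟨g, hg, hg2⟩ := h1 w
    exact (h2 w (rep w) g hg hg2).symm
  have h5 : ∀ j k, ∀ g ∈ Subgroup.closure (Set.range x), g (rep (v j)) = rep (v k) → rep (v j) = rep (v k) := by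
    intro j k g hg h
    have := h2 _ _ g hg h
    rwa [hrr, hrr] at this
  refine ⟨fun j => rep (v j), ⟨⟨fun j hj => (hmv j hj).1, ?_, ?_⟩, fun j hj => (hmv j hj).2, fun j _ k _ => h5 j k⟩⟩
  · rintro j hj k hk ⟨m, hm⟩
    have h3 := h5 k j ((x j)⁻¹ * x i ^ m) (Subgroup.mul_mem _ (Subgroup.inv_mem _ (hmem j)) (Subgroup.zpow_mem _ (hmem i) m))
      (by rw [Perm.mul_apply, hm, pia])
    rw [h3] at hm
    refine f1 hx (hJ j hj).1 (hmv j hj).2 (a := 1) (fun h => ?_) ⟨m, by rw [pow_one]; exact hm⟩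
    exact (hx.prime j).one_lt.ne' (Nat.dvd_one.1 h)
  · rintro j hj k hk hjk ⟨m, hm⟩
    have h3 := h5 j k ((x k)⁻¹ * x i ^ m * x j) (Subgroup.mul_mem _ (Subgroup.mul_mem _ (Subgroup.inv_mem _ (hmem k))
      (Subgroup.zpow_mem _ (hmem i) m)) (hmem j)) (by rw [Perm.mul_apply, Perm.mul_apply, hm, pia])
    rw [h3] at hm
    refine f2 hx (j := k) (k := j) (hJ k hk).1 hjk.symm (hmv k hk).2 (a := 1) (fun h => ?_) ⟨m, by rw [pow_one]; exact hm⟩
    exact (hx.prime k).one_lt.ne' (Nat.dvd_one.1 h)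

open Classical in
/-- the free part of the support -/
noncomputable def E0 (x : ι → Perm α) (i : ι) (J : Finset ι) (u : ι → α) : Finset α :=
  Finset.univ.filter fun v => x i v ≠ v ∧ ∀ j ∈ J, ¬ SameCycle (x i) (u j) v ∧ ¬ SameCycle (x i) (x j (u j)) v

theorem mem_E0 {i : ι} {J : Finset ι} {u : ι → α} {v : α} :
    v ∈ E0 x i J u ↔ x i v ≠ v ∧ ∀ j ∈ J, ¬ SameCycle (x i) (u j) v ∧ ¬ SameCycle (x i) (x j (u j)) v := by
  rw [E0, Finset.mem_filter]
  exact ⟨fun h => h.2, fun h => ⟨Finset.mem_univ _, h⟩⟩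

theorem E0_sc {i : ι} {J : Finset ι} {u : ι → α} {v w : α} (h : SameCycle (x i) v w) (hv : v ∈ E0 x i J u) :
    w ∈ E0 x i J u := by
  rw [mem_E0] at hv ⊢
  refine ⟨fun h2 => hv.1 ((h.apply_eq_self_iff).2 h2), fun j hj => ⟨fun h2 => (hv.2 j hj).1 (h2.trans h.symm),
    fun h2 => (hv.2 j hj).2 (h2.trans h.symm)⟩⟩

theorem E0_card (hx : PF x r) {i : ι} {J : Finset ι} {u : ι → α} {v : α} (hv : v ∈ E0 x i J u) :
    r i ≤ (E0 x i J u).card := by
  have h1 := (mem_E0.1 hv).1
  rw [← card_blk (hx.prime i) (hx.pow i) h1]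
  apply Finset.card_le_card
  intro w hw
  rw [mem_blk h1] at hw
  exact E0_sc hw hv

theorem E0_card_two (hx : PF x r) {i : ι} {J : Finset ι} {u : ι → α} {v w : α} (hv : v ∈ E0 x i J u)
    (hw : w ∈ E0 x i J u) (hvw : ¬ SameCycle (x i) v w) : 2 * r i ≤ (E0 x i J u).card := by
  have h1 := (mem_E0.1 hv).1
  have h2 := (mem_E0.1 hw).1
  have h3 : _root_.Disjoint (blk (x i) v) (blk (x i) w) := by
    rw [Finset.disjoint_left]
    intro z hz hz2
    rw [mem_blk h1] at hz
    rw [mem_blk h2] at hz2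
    exact hvw (hz.trans hz2.symm)
  have h4 : blk (x i) v ∪ blk (x i) w ⊆ E0 x i J u := by
    intro z hz
    rcases Finset.mem_union.1 hz with hz | hz
    · rw [mem_blk h1] at hz
      exact E0_sc hz hv
    · rw [mem_blk h2] at hz
      exact E0_sc hz hw
  have h5 := Finset.card_le_card h4
  rw [Finset.card_union_of_disjoint h3, card_blk (hx.prime i) (hx.pow i) h1, card_blk (hx.prime i) (hx.pow i) h2] at h5
  omega

theorem odd_three (hx : PF x r) {i : ι} (hodd : r i ≠ 2) (h : r i ≤ 4) : r i = 3 := by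
  have := (hx.prime i).two_le
  have h4 : r i ≠ 4 := fun h => by
    have := hx.prime i
    rw [h] at this
    exact absurd this (by norm_num)
  omega

theorem dicho (hx : PF x r) {i : ι} (hodd : r i ≠ 2) {J : Finset ι} (hJ : ∀ j ∈ J, j ≠ i) {u : ι → α}
    (hu : Star' x i J u) :
    (5 ≤ (E0 x i J u).card ∧ r i ≤ (E0 x i J u).card) ∨ (J = ∅ ∧ (x i).support.card = 3) ∨
      ∃ j, r j = 2 ∧ J = {j} ∧ (x i).support.card ≤ 2 * r i + 4 := by
  classical
  have hmem : ∀ j, x j ∈ Subgroup.closure (Set.range x) := fun j => Subgroup.subset_closure ⟨j, rfl⟩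
  have hbig : ∀ v w, v ∈ E0 x i J u → w ∈ E0 x i J u → ¬ SameCycle (x i) v w →
      5 ≤ (E0 x i J u).card ∧ r i ≤ (E0 x i J u).card := by
    intro v w hv hw hvw
    have h1 := E0_card_two hx hv hw hvw
    have h2 : 3 ≤ r i := by
      have := (hx.prime i).two_le
      omega
    omega
  by_cases hj : ∃ j ∈ J, r j ≠ 2
  · left
    obtain ⟨j, hj, hj2⟩ := hj
    have hji := hJ j hj
    have key : ∀ a : ℕ, ¬ r j ∣ a → ¬ r j ∣ a - 1 → 2 ≤ a → (x j ^ a) (u j) ∈ E0 x i J u := by
      intro a ha ha1 ha2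
      rw [mem_E0]
      refine ⟨fun h => hu.h1 j hj ?_, fun k hk => ⟨?_, ?_⟩⟩
      · have hc : x i * x j ^ a = x j ^ a * x i := ((show Commute (x i) (x j) from hx.comm i j).pow_right a).eq
        rw [← Perm.mul_apply, hc, Perm.mul_apply] at h
        exact (x j ^ a).injective h
      · intro h
        obtain ⟨m, hm⟩ := id h
        have h3 := hu.h5 k hk j hj ((x j ^ a)⁻¹ * x i ^ m) (Subgroup.mul_mem _ (Subgroup.inv_mem _
          (Subgroup.pow_mem _ (hmem j) a)) (Subgroup.zpow_mem _ (hmem i) m)) (by rw [Perm.mul_apply, hm, pia])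
        rw [h3] at h
        exact f1 hx hji (hu.h4 j hj) ha h
      · intro h
        obtain ⟨m, hm⟩ := id h
        have h3 := hu.h5 k hk j hj ((x j ^ a)⁻¹ * x i ^ m * x k) (Subgroup.mul_mem _ (Subgroup.mul_mem _
          (Subgroup.inv_mem _ (Subgroup.pow_mem _ (hmem j) a)) (Subgroup.zpow_mem _ (hmem i) m)) (hmem k))
          (by rw [Perm.mul_apply, Perm.mul_apply, hm, pia])
        rw [h3] at h
        by_cases hkj : k = j
        · subst hkj
          have h4 := f3 hx hji (hu.h4 k hj) (a := 1) (b := a - 1) ha1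
          rw [pow_one, Nat.add_sub_cancel' (by omega : 1 ≤ a)] at h4
          exact h4 h
        · exact f2 hx hji (Ne.symm hkj) (hu.h4 j hj) ha h
    have hp2 : ¬ r j ∣ 2 := fun h => hj2 ((Nat.prime_dvd_prime_iff_eq (hx.prime j) Nat.prime_two).1 h)
    have hp1 : ¬ r j ∣ 1 := fun h => (hx.prime j).one_lt.ne' (Nat.dvd_one.1 h)
    have hv := key 2 hp2 hp1 le_rfl
    by_cases h5 : 5 ≤ r i
    · have h1 := E0_card hx hv
      omega
    · have h3 := odd_three hx hodd (by omega)
      have hp3 : ¬ r j ∣ 3 := fun h => hji (hx.inj (((Nat.prime_dvd_prime_iff_eq (hx.prime j) Nat.prime_three).1 h).trans h3.symm))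
      have hw := key 3 hp3 hp2 (by omega)
      exact hbig _ _ hv hw (f3 hx hji (hu.h4 j hj) (a := 2) (b := 1) hp1)
  · push Not at hj
    by_cases h5 : 5 ≤ (E0 x i J u).card
    · left
      obtain ⟨v, hv⟩ := Finset.card_pos.1 (by omega : 0 < (E0 x i J u).card)
      exact ⟨h5, E0_card hx hv⟩
    · right
      rcases J.eq_empty_or_nonempty with rfl | ⟨j, hjJ⟩
      · left
        refine ⟨rfl, ?_⟩
        have hE : ∀ v, v ∈ E0 x i ∅ u ↔ x i v ≠ v := by
          intro v
          rw [mem_E0]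
          exact ⟨fun h => h.1, fun h => ⟨h, fun j hj => absurd hj (Finset.notMem_empty j)⟩⟩
        obtain ⟨v, hv⟩ : ∃ v, x i v ≠ v := by
          by_contra hno
          push Not at hno
          exact hx.ne i (Equiv.ext hno)
        have h1 := E0_card hx ((hE v).2 hv)
        have h3 := odd_three hx hodd (by omega)
        have h2 : (x i).support = blk (x i) v := by
          ext w
          rw [mem_support, mem_blk hv]
          constructor
          · intro hw
            by_contra hno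
            exact h5 (hbig v w ((hE v).2 hv) ((hE w).2 hw) hno).1
          · intro hw h2
            exact hv ((hw.apply_eq_self_iff).2 h2)
        rw [h2, card_blk (hx.prime i) (hx.pow i) hv, h3]
      · right
        refine ⟨j, hj j hjJ, ?_, ?_⟩
        · rw [Finset.eq_singleton_iff_unique_mem]
          exact ⟨hjJ, fun k hk => hx.inj ((hj k hk).trans (hj j hjJ).symm)⟩
        · have hJj : ∀ k ∈ J, k = j := fun k hk => hx.inj ((hj k hk).trans (hj j hjJ).symm)
          have hmv : x i (x j (u j)) ≠ x j (u j) := by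
            intro h
            apply hu.h1 j hjJ
            apply (x j).injective
            rw [← Perm.mul_apply, hx.comm j i, Perm.mul_apply, h]
          have h1 : (x i).support ⊆ (blk (x i) (u j) ∪ blk (x i) (x j (u j))) ∪ E0 x i J u := by
            intro w hw
            rw [mem_support] at hw
            rw [Finset.mem_union, Finset.mem_union, mem_blk (hu.h1 j hjJ), mem_blk hmv, mem_E0]
            by_cases ha : SameCycle (x i) (u j) w
            · exact Or.inl (Or.inl ha)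
            · by_cases hb : SameCycle (x i) (x j (u j)) w
              · exact Or.inl (Or.inr hb)
              · right
                refine ⟨hw, fun k hk => ?_⟩
                rw [hJj k hk]
                exact ⟨ha, hb⟩
          have h2 := Finset.card_le_card h1
          have h3 := Finset.card_union_le (blk (x i) (u j) ∪ blk (x i) (x j (u j))) (E0 x i J u)
          have h4 := Finset.card_union_le (blk (x i) (u j)) (blk (x i) (x j (u j)))
          rw [card_blk (hx.prime i) (hx.pow i) (hu.h1 j hjJ), card_blk (hx.prime i) (hx.pow i) hmv] at h4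
          omega

end

end Cfsg.Agent.H555.RA
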