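import Cfsg.Agent.H555.RA.Choice

/-!
# S3509, alternating socle: the core theorem (helper555)

`core` : a family of subgroups of `Sym n` (`n = 7` or `n ≥ 9`), closed under conjugation by even permutations, which
for each family of disjoint pairs has a member without three cycles through these pairs, is not covered by commuting
elements of different prime orders.
-/

set_option autoImplicit false
set_option linter.unusedSectionVars false

namespace Cfsg.Agent.H555.RA

open Equiv Equiv.Perm Cfsg.Agent.H106.RC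

variable {α : Type*} [Fintype α] [DecidableEq α]

theorem c3_apply {u v w a : α} (h1 : a ≠ u) (h2 : a ≠ v) (h3 : a ≠ w) : c3 u v w a = a := by
  rw [c3, Perm.mul_apply, swap_apply_of_ne_of_ne h2 h3, swap_apply_of_ne_of_ne h1 h2]

theorem c3_sq {a b c : α} (hab : a ≠ b) (hbc : b ≠ c) (hac : a ≠ c) : c3 a b c * c3 a b c = c3 b a c := by
  ext w
  rw [Perm.mul_apply]
  by_cases h1 : w = a
  · subst h1
    rw [c3_left hab hac, c3_mid hbc hac, c3_mid hac hbc]
  by_cases h2 : w = b
  · subst h2
    rw [c3_mid hbc hac, c3_right, c3_left hab.symm hbc]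
  by_cases h3 : w = c
  · subst h3
    rw [c3_right, c3_left hab hac, c3_right]
  rw [c3_apply h1 h2 h3, c3_apply h1 h2 h3, c3_apply h2 h1 h3]

theorem c3_inv {a b c : α} (hab : a ≠ b) (hbc : b ≠ c) (hac : a ≠ c) : c3 a b c * c3 b a c = 1 := by
  ext w
  rw [Perm.mul_apply, Perm.one_apply]
  by_cases h1 : w = a
  · subst h1
    rw [c3_mid hac hbc, c3_right]
  by_cases h2 : w = b
  · subst h2
    rw [c3_left hab.symm hbc, c3_left hab hac]
  by_cases h3 : w = c
  · subst h3
    rw [c3_right, c3_mid hbc hac]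
  rw [c3_apply h2 h1 h3, c3_apply h1 h2 h3]

/-- the kill rule, with the case of three points -/
theorem kill' {X : Set (Subgroup (Perm α))} (hX : Cl X) {B : Subgroup (Perm α) → Prop} {E : Finset α} {x : Perm α}
    (hxE : ∀ v ∈ E, x v ∈ E) {e : α} (he : e ∈ E) (hxe : x e ≠ e) (hE : 5 ≤ E.card ∨ (E.card = 3 ∧ x (x e) = e))
    (hB : ∀ σ ∈ altOn E, ∀ H, B (cj σ H) → B H) (hcov : ∀ H ∈ X, B H ∨ x ∈ H) :
    ∀ H ∈ X, B H ∨ R H e (x e) := by
  intro H hH
  rcases hE with hE | ⟨hE, hxx⟩
  · rcases kill hX hE hxE he hxe hB hcov H hH with h | h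
    · exact Or.inl h
    · exact Or.inr (R_of_altOn (by omega) h he (hxE e he) hxe.symm)
  · by_cases hBH : B H
    · exact Or.inl hBH
    right
    have h1 : ∀ σ ∈ altOn E, σ⁻¹ * x * σ ∈ H := by
      intro σ hσ
      rcases hcov _ (hX σ hσ.1 H hH) with h | h
      · exact absurd (hB σ hσ H h) hBH
      · exact mem_cj.1 h
    have h1x : x ∈ H := by
      have := h1 1 (altOn E).one_mem
      rwa [inv_one, one_mul, mul_one] at this
    obtain ⟨f, hf⟩ : ∃ f, f ∈ (E.erase e).erase (x e) := by
      apply Finset.card_pos.1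
      rw [Finset.card_erase_of_mem (Finset.mem_erase.2 ⟨hxe, hxE e he⟩), Finset.card_erase_of_mem he]
      omega
    rw [Finset.mem_erase, Finset.mem_erase] at hf
    have hall : ∀ v ∈ E, v = e ∨ v = x e ∨ v = f := by
      intro v hv
      by_contra hno
      rw [not_or, not_or] at hno
      have h2 : v ∈ ((E.erase e).erase (x e)).erase f := by
        rw [Finset.mem_erase, Finset.mem_erase, Finset.mem_erase]
        exact ⟨hno.2.2, hno.2.1, hno.1, hv⟩
      have h3 := Finset.card_pos.2 ⟨v, h2⟩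
      rw [Finset.card_erase_of_mem (Finset.mem_erase.2 ⟨hf.1, Finset.mem_erase.2 ⟨hf.2.1, hf.2.2⟩⟩),
        Finset.card_erase_of_mem (Finset.mem_erase.2 ⟨hxe, hxE e he⟩), Finset.card_erase_of_mem he] at h3
      omega
    have hxf : x f = f := by
      rcases hall _ (hxE f hf.2.2) with h | h | h
      · exact absurd (x.injective (h.trans hxx.symm)) hf.1
      · exact absurd (x.injective h) hf.2.1
      · exact h
    have hρ : c3 e (x e) f ∈ altOn E := c3_mem_altOn hxe.symm hf.1.symm he (hxE e he) hf.2.2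
    have h2 := H.mul_mem (h1 _ hρ) (H.inv_mem h1x)
    have h3 : (c3 e (x e) f)⁻¹ * x * c3 e (x e) f * x⁻¹ = (c3 e (x e) f)⁻¹ * (x * c3 e (x e) f * x⁻¹) := by group
    rw [h3, c3_conj, hxx, hxf] at h2
    have h4 : c3 (x e) e f = (c3 e (x e) f)⁻¹ := by
      rw [eq_inv_iff_mul_eq_one, c3_inv hxe hf.2.1.symm hf.1.symm]
    have h5 := c3_sq hxe.symm hf.1.symm hf.2.1.symm
    have h6 : (c3 e (x e) f)⁻¹ * c3 (x e) e f = c3 e (x e) f := by
      rw [inv_mul_eq_iff_eq_mul, h5]
    rw [h6] at h2
    exact ⟨hxe.symm, f, hf.2.1, hf.1, h2⟩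

section

variable {ι : Type*} [Finite ι] [DecidableEq ι] {X : Set (Subgroup (Perm α))} {x : ι → Perm α} {r : ι → ℕ}

/-- the even part of the group generated by the transpositions of the involution `z` -/
def U2 (z : Perm α) : Subgroup (Perm α) :=
  Subgroup.closure {g | ∃ v w, z v ≠ v ∧ z w ≠ w ∧ g = z.cycleOf v * z.cycleOf w}

theorem U2_le (z : Perm α) : U2 z ≤ cyU z := by
  rw [U2, Subgroup.closure_le]
  rintro _ ⟨v, w, -, -, rfl⟩
  exact (cyU z).mul_mem (cy_mem z v) (cy_mem z w)

theorem U2_sign {z : Perm α} (hz : z ^ 2 = 1) {g : Perm α} (hg : g ∈ U2 z) : sign g = 1 := by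
  have h : U2 z ≤ (sign : Perm α →* ℤˣ).ker := by
    rw [U2, Subgroup.closure_le]
    rintro _ ⟨v, w, hv, hw, rfl⟩
    have h1 : ∀ v, z v ≠ v → sign (z.cycleOf v) = -1 := by
      intro v hv
      rw [(isCycle_cycleOf z hv).sign]
      have : (z.cycleOf v).support.card = 2 := card_blk Nat.prime_two hz hv
      rw [this]
      rfl
    change sign (z.cycleOf v * z.cycleOf w) = 1
    rw [Perm.sign_mul, h1 v hv, h1 w hw]
    rfl
  exact h hg

theorem U2_conj {z y : Perm α} (h : y * z = z * y) {u : Perm α} (hu : u ∈ U2 z) : y * u * y⁻¹ ∈ U2 z := by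
  have h1 : U2 z ≤ (U2 z).comap (MulAut.conj y).toMonoidHom := by
    conv_lhs => rw [U2]
    rw [Subgroup.closure_le]
    rintro _ ⟨v, w, hv, hw, rfl⟩
    change y * (z.cycleOf v * z.cycleOf w) * y⁻¹ ∈ U2 z
    have h2 : y * (z.cycleOf v * z.cycleOf w) * y⁻¹ = (y * z.cycleOf v * y⁻¹) * (y * z.cycleOf w * y⁻¹) := by group
    rw [h2, cy_conj h, cy_conj h]
    have h3 : ∀ v, z v ≠ v → z (y v) ≠ y v := by
      intro v hv h4
      apply hv
      apply y.injective
      rw [← Perm.mul_apply, h, Perm.mul_apply, h4]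
    exact Subgroup.subset_closure ⟨y v, y w, h3 v hv, h3 w hw, rfl⟩
  exact h1 hu

/-- **The last step**: the involution `z = x i₂` and members of odd order with disjoint supports -/
theorem last (hX : Cl X) (hn : 7 ≤ Fintype.card α) (hn8 : Fintype.card α ≠ 8)
    (hfin : ∀ P : Finset (α × α), PD P → ∃ H ∈ X, ¬ Bad P H) (hx : PF x r) {s : Finset ι} {P : Finset (α × α)}
    {T : Finset α} (hs : St X x r s P T) {i₂ : ι} (hi₂ : i₂ ∈ s) (hr2 : r i₂ = 2)
    (hK : ∀ i ∈ s, i ≠ i₂ → (∃ v, x i v ≠ v ∧ x i₂ v ≠ v) ∧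
      (∀ j ∈ s, j ≠ i₂ → j ≠ i → ∀ v, x i v ≠ v → x j v = v)) : False := by
  classical
  have : Nonempty α := Fintype.card_pos_iff.1 (by omega)
  obtain ⟨z, hz⟩ : ∃ z, z = x i₂ := ⟨_, rfl⟩
  have hz2 : z ^ 2 = 1 := by rw [hz, ← hr2]; exact hx.pow i₂
  have hzz : ∀ v, z (z v) = v := by
    intro v
    rw [← Perm.mul_apply, ← pow_two, hz2]
    rfl
  have hzc : ∀ i, x i * z = z * x i := by
    intro i
    rw [hz]
    exact hx.comm i i₂
  let K := s.erase i₂
  have hKm : ∀ i, i ∈ K ↔ i ≠ i₂ ∧ i ∈ s := fun i => Finset.mem_erase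
  have hKodd : ∀ i ∈ K, r i ≠ 2 := by
    intro i hi h
    exact ((hKm i).1 hi).1 (hx.inj (h.trans hr2.symm))
  -- the points
  have hu : ∀ i, ∃ v, i ∈ K → x i v ≠ v ∧ z v ≠ v := by
    intro i
    by_cases hi : i ∈ K
    · obtain ⟨v, hv⟩ := (hK i ((hKm i).1 hi).2 ((hKm i).1 hi).1).1
      exact ⟨v, fun _ => by rw [hz]; exact hv⟩
    · exact ⟨Classical.arbitrary α, fun h => absurd h hi⟩
  choose u hu using hu
  have hmz : ∀ i v, z v ≠ v → z (x i v) ≠ x i v := by
    intro i v hv h
    apply hv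
    apply (x i).injective
    rw [← Perm.mul_apply, hzc i, Perm.mul_apply, h]
  have hmx : ∀ i v, x i v ≠ v → x i (z v) ≠ z v := by
    intro i v hv h
    apply hv
    apply z.injective
    rw [← Perm.mul_apply, ← hzc i, Perm.mul_apply, h]
  let w : ι → α := fun i => (x i ^ 2) (u i)
  have hw : ∀ i, w i = x i (x i (u i)) := by
    intro i
    change (x i ^ 2) (u i) = _
    rw [pow_two]
    rfl
  have hwm : ∀ i ∈ K, z (w i) ≠ w i := by
    intro i hi
    rw [hw]
    exact hmz i _ (hmz i _ (hu i hi).2)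
  have hnd1 : ∀ i, ¬ r i ∣ 1 := fun i h => (hx.prime i).one_lt.ne' (Nat.dvd_one.1 h)
  have hnd2 : ∀ i ∈ K, ¬ r i ∣ 2 := fun i hi h => hKodd i hi ((Nat.prime_dvd_prime_iff_eq (hx.prime i) Nat.prime_two).1 h)
  -- `u`, `x u`, `w` in different blocks
  have hsc1 : ∀ i ∈ K, ¬ SameCycle z (u i) (x i (u i)) := by
    intro i hi
    rw [hz]
    have := f1 hx ((hKm i).1 hi).1 (hu i hi).1 (hnd1 i)
    rwa [pow_one] at this
  have hsc2 : ∀ i ∈ K, ¬ SameCycle z (u i) (w i) := by
    intro i hi
    rw [hz]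
    exact f1 hx ((hKm i).1 hi).1 (hu i hi).1 (hnd2 i hi)
  have hsc3 : ∀ i ∈ K, ¬ SameCycle z (x i (u i)) (w i) := by
    intro i hi
    rw [hz]
    have := f3 hx ((hKm i).1 hi).1 (hu i hi).1 (a := 1) (hnd1 i)
    rwa [pow_one] at this
  let Y : ι → Finset α := fun i => blk z (u i) ∪ blk z (w i)
  have hY : ∀ i ∈ K, ∀ v, v ∈ Y i ↔ SameCycle z (u i) v ∨ SameCycle z (w i) v := by
    intro i hi v
    rw [Finset.mem_union, mem_blk (hu i hi).2, mem_blk (hwm i hi)]
  have hYcard : ∀ i ∈ K, (Y i).card = 4 := by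
    intro i hi
    change (blk z (u i) ∪ blk z (w i)).card = 4
    rw [Finset.card_union_of_disjoint, card_blk Nat.prime_two hz2 (hu i hi).2, card_blk Nat.prime_two hz2 (hwm i hi)]
    rw [Finset.disjoint_left]
    intro v hv hv2
    rw [mem_blk (hu i hi).2] at hv
    rw [mem_blk (hwm i hi)] at hv2
    exact hsc2 i hi (hv.trans hv2.symm)
  have hxsc : ∀ i v v', x i v ≠ v → SameCycle z v v' → x i v' ≠ v' := by
    rintro i v v' hv ⟨m, rfl⟩ h
    apply hv
    have h1 : (z ^ m) (x i v) = x i ((z ^ m) v) := comm_pow_apply (hzc i) m v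
    rw [h] at h1
    exact (z ^ m).injective h1
  have hYs : ∀ i ∈ K, ∀ v ∈ Y i, x i v ≠ v := by
    intro i hi v hv
    rcases (hY i hi v).1 hv with h | h
    · exact hxsc i _ _ (hu i hi).1 h
    · refine hxsc i _ _ ?_ h
      rw [hw]
      intro h2
      have h3 := (x i).injective h2
      exact (hu i hi).1 ((x i).injective h3)
  have hdis : ∀ i ∈ K, ∀ j ∈ K, i ≠ j → ∀ v, x i v ≠ v → x j v = v := by
    intro i hi j hj hij v hv
    exact (hK i ((hKm i).1 hi).2 ((hKm i).1 hi).1).2 j ((hKm j).1 hj).2 ((hKm j).1 hj).1 hij.symm v hv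
  have hzT : ∀ v ∈ T, z v = v := by
    intro v hv
    rw [hz]
    exact hs.fix i₂ hi₂ v hv
  have hxT : ∀ i ∈ K, ∀ v ∈ T, x i v = v := fun i hi => hs.fix i ((hKm i).1 hi).2
  let y : ι → Perm α := fun i => z.cycleOf (u i) * z.cycleOf (w i)
  have hyY : ∀ i ∈ K, ∀ v, v ∉ Y i → y i v = v := by
    intro i hi v hv
    rw [hY i hi, not_or] at hv
    change (z.cycleOf (u i) * z.cycleOf (w i)) v = v
    rw [Perm.mul_apply, cy_fix hv.2, cy_fix hv.1]
  have hyU : ∀ i ∈ K, y i ∈ U2 z := fun i hi => Subgroup.subset_closure ⟨_, _, (hu i hi).2, hwm i hi, rfl⟩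
  have hyalt : ∀ i ∈ K, y i ∈ altOn (Y i) := fun i hi => ⟨U2_sign hz2 (hyU i hi), hyY i hi⟩
  -- first part: the group `U2 z`
  have hA : ∀ H ∈ X, (Bad P H ∨ ∃ i ∈ K, y i ∈ H) ∨ z ∈ H := by
    intro H hH
    by_contra hno
    rw [not_or, not_or] at hno
    obtain ⟨⟨hb, hnK⟩, hnz⟩ := hno
    have hcov : ∀ g ∈ U2 z, ∃ j : s, g⁻¹ * x j * g ∈ H := by
      intro g hg
      rcases hs.cov _ (hX g (U2_sign hz2 hg) H hH) with h | ⟨j, hj, h⟩
      · exfalso
        apply hb
        refine bad_cj (fun p hp => ?_) h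
        have h2 := hs.sub p hp
        exact ⟨cyU_fix (U2_le z hg) (hzT _ h2.1), cyU_fix (U2_le z hg) (hzT _ h2.2)⟩
      · exact ⟨⟨j, hj⟩, mem_cj.1 h⟩
    obtain ⟨⟨j, hj⟩, h1⟩ := cover_cj (x := fun j : s => x j) (r := fun j : s => r j) (U := U2 z)
      (fun j => hx.prime j) (fun j => hx.pow j) (fun j k => hx.comm j k) hcov
      (fun j g hg => U2_conj (hzc j) hg) (fun g hg k hk => cyU_comm (U2_le z hg) (U2_le z hk)) (by
        intro j k hj hk
        have h2 : ∀ j : s, ¬ (r j).Coprime (Nat.card (U2 z)) → (j : ι) = i₂ := by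
          intro j hj
          by_contra hji
          apply hj
          exact card_coprime Nat.prime_two (hx.prime j) (fun h => hji (hx.inj (h.trans hr2.symm)))
            fun g hg => cyU_pow hz2 (U2_le z hg)
        exact Subtype.ext ((h2 j hj).trans (h2 k hk).symm))
    have hxH : x j ∈ H := by
      have := h1 1 (U2 z).one_mem
      rwa [inv_one, one_mul, mul_one] at this
    by_cases hji : j = i₂
    · rw [hji, ← hz] at hxH
      exact hnz hxH
    · have hjK : j ∈ K := (hKm j).2 ⟨hji, hj⟩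
      apply hnK
      refine ⟨j, hjK, ?_⟩
      obtain ⟨g, hg⟩ : ∃ g, g = z.cycleOf (u j) * z.cycleOf (x j (u j)) := ⟨_, rfl⟩
      have hgU : g ∈ U2 z := Subgroup.subset_closure ⟨_, _, (hu j hjK).2, hmz j _ (hu j hjK).2, hg⟩
      have h2 := h1 g hgU
      have h3 := H.mul_mem h2 (H.inv_mem hxH)
      change g⁻¹ * x j * g * (x j)⁻¹ ∈ H at h3
      have h4 : g⁻¹ * x j * g * (x j)⁻¹ = g⁻¹ * (x j * g * (x j)⁻¹) := by group
      have h5 : x j * g * (x j)⁻¹ = z.cycleOf (x j (u j)) * z.cycleOf (w j) := by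
        have h6 : x j * g * (x j)⁻¹ = (x j * z.cycleOf (u j) * (x j)⁻¹) * (x j * z.cycleOf (x j (u j)) * (x j)⁻¹) := by
          rw [hg]; group
        rw [h6, cy_conj (hzc j), cy_conj (hzc j), hw]
      have h7 : g⁻¹ = g := by
        rw [inv_eq_iff_mul_eq_one, ← pow_two]
        exact cyU_pow hz2 (U2_le z hgU)
      have h8 : z.cycleOf (x j (u j)) * z.cycleOf (x j (u j)) = 1 := by
        rw [← pow_two]
        exact cy_pow hz2 _
      rw [h4, h5, h7, hg, mul_assoc, ← mul_assoc (z.cycleOf (x j (u j))), h8, one_mul] at h3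
      exact h3
  -- the set `E`
  let D : Finset α := P.image Prod.fst ∪ P.image Prod.snd
  have hDT : ∀ v ∈ D, v ∈ T := by
    intro v hv
    rcases Finset.mem_union.1 hv with hv | hv
    · obtain ⟨p, hp, rfl⟩ := Finset.mem_image.1 hv
      exact (hs.sub p hp).1
    · obtain ⟨p, hp, rfl⟩ := Finset.mem_image.1 hv
      exact (hs.sub p hp).2
  have hPD : ∀ p ∈ P, p.1 ∈ D ∧ p.2 ∈ D := fun p hp =>
    ⟨Finset.mem_union_left _ (Finset.mem_image_of_mem _ hp), Finset.mem_union_right _ (Finset.mem_image_of_mem _ hp)⟩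
  have hDcard : D.card ≤ 2 * P.card := by
    refine (Finset.card_union_le _ _).trans ?_
    have h1 : (P.image Prod.fst).card ≤ P.card := Finset.card_image_le
    have h2 : (P.image Prod.snd).card ≤ P.card := Finset.card_image_le
    omega
  let E : Finset α := Finset.univ \ (D ∪ K.biUnion Y)
  have hE : ∀ v, v ∈ E ↔ v ∉ D ∧ ∀ i ∈ K, v ∉ Y i := by
    intro v
    rw [Finset.mem_sdiff, Finset.mem_union, Finset.mem_biUnion, not_or]
    constructor
    · rintro ⟨-, h1, h2⟩
      exact ⟨h1, fun i hi hv => h2 ⟨i, hi, hv⟩⟩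
    · rintro ⟨h1, h2⟩
      exact ⟨Finset.mem_univ _, h1, fun ⟨i, hi, hv⟩ => h2 i hi hv⟩
  have hEcard : Fintype.card α ≤ E.card + (2 * P.card + 4 * K.card) := by
    have h1 : (Finset.univ : Finset α).card ≤ (Finset.univ \ (D ∪ K.biUnion Y)).card + (D ∪ K.biUnion Y).card :=
      Finset.card_le_card_sdiff_add_card
    have h2 := Finset.card_union_le D (K.biUnion Y)
    have h3 : (K.biUnion Y).card ≤ K.card * 4 := Finset.card_biUnion_le_card_mul _ _ _ fun i hi => (hYcard i hi).le
    rw [Finset.card_univ] at h1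
    change Fintype.card α ≤ (Finset.univ \ (D ∪ K.biUnion Y)).card + (2 * P.card + 4 * K.card)
    omega
  -- the supports
  have hsup : T.card + ∑ i ∈ K, 2 * r i ≤ Fintype.card α := by
    have h1 : ∀ i ∈ K, 2 * r i ≤ (x i).support.card := by
      intro i hi
      have hmv := hmx i _ (hu i hi).1
      have h2 : _root_.Disjoint (blk (x i) (u i)) (blk (x i) (z (u i))) := by
        rw [Finset.disjoint_left]
        intro v hv hv2
        rw [mem_blk (hu i hi).1] at hv
        rw [mem_blk hmv] at hv2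
        have h3 := f1 hx (i := i) (j := i₂) (Ne.symm ((hKm i).1 hi).1) (u := u i) (a := 1) (by
          rw [← hz]; exact (hu i hi).2) (hnd1 i₂)
        rw [pow_one, ← hz] at h3
        exact h3 (hv.trans hv2.symm)
      have h3 : blk (x i) (u i) ∪ blk (x i) (z (u i)) ⊆ (x i).support := by
        intro v hv
        rw [mem_support]
        rcases Finset.mem_union.1 hv with hv | hv
        · rw [mem_blk (hu i hi).1] at hv
          exact fun h => (hu i hi).1 ((hv.apply_eq_self_iff).2 h)
        · rw [mem_blk hmv] at hv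
          exact fun h => hmv ((hv.apply_eq_self_iff).2 h)
      have h4 := Finset.card_le_card h3
      rw [Finset.card_union_of_disjoint h2, card_blk (hx.prime i) (hx.pow i) (hu i hi).1,
        card_blk (hx.prime i) (hx.pow i) hmv] at h4
      omega
    have h2 : (K.biUnion fun i => (x i).support).card = ∑ i ∈ K, (x i).support.card := by
      apply Finset.card_biUnion
      intro i hi j hj hij
      rw [Function.onFun, Finset.disjoint_left]
      intro v hv hv2
      exact (mem_support.1 hv2) (hdis i hi j hj hij v (mem_support.1 hv))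
    have h3 : _root_.Disjoint T (K.biUnion fun i => (x i).support) := by
      rw [Finset.disjoint_left]
      intro v hv hv2
      obtain ⟨i, hi, hv2⟩ := Finset.mem_biUnion.1 hv2
      exact (mem_support.1 hv2) (hxT i hi v hv)
    have h4 : (T ∪ K.biUnion fun i => (x i).support).card ≤ Fintype.card α := Finset.card_le_univ _
    rw [Finset.card_union_of_disjoint h3, h2] at h4
    have h5 : ∑ i ∈ K, 2 * r i ≤ ∑ i ∈ K, (x i).support.card := Finset.sum_le_sum h1
    omega
  have h3le : ∀ i ∈ K, 3 ≤ r i := by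
    intro i hi
    have h1 := (hx.prime i).two_le
    have h2 := hKodd i hi
    omega
  have hsum4 : ∑ i ∈ K, 2 * r i = 4 * K.card + ∑ i ∈ K, (2 * r i - 4) := by
    have h1 : ∑ i ∈ K, 2 * r i = ∑ i ∈ K, (4 + (2 * r i - 4)) := by
      apply Finset.sum_congr rfl
      intro i hi
      have := h3le i hi
      omega
    rw [h1, Finset.sum_add_distrib, Finset.sum_const, smul_eq_mul]
    ring
  -- size of `E` and the point `e`
  obtain ⟨e, heE, hze, hEE⟩ : ∃ e ∈ E, z e ≠ e ∧ (5 ≤ E.card ∨ (E.card = 3 ∧ z (z e) = e)) := by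
    rcases K.eq_empty_or_nonempty with hK0 | ⟨i, hi⟩
    · obtain ⟨e, he⟩ : ∃ e, z e ≠ e := by
        by_contra hno
        push Not at hno
        apply hx.ne i₂
        rw [← hz]
        exact Equiv.ext hno
      have heD : e ∉ T := fun h => he (hzT e h)
      refine ⟨e, (hE e).2 ⟨fun h => heD (hDT e h), fun i hi => ?_⟩, he, Or.inl ?_⟩
      · rw [hK0] at hi
        exact absurd hi (Finset.notMem_empty i)
      · have h1 : K.card = 0 := by rw [hK0, Finset.card_empty]
        have h2 : (insert e (insert (z e) T)).card ≤ Fintype.card α := Finset.card_le_univ _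
        have heD' : z e ∉ T := fun h => he (by
          have := hzT _ h
          rw [hzz] at this
          exact this.symm)
        rw [Finset.card_insert_of_notMem (by rw [Finset.mem_insert, not_or]; exact ⟨he.symm, heD⟩),
          Finset.card_insert_of_notMem heD'] at h2
        have h3 := hs.c3
        omega
    · refine ⟨x i (u i), (hE _).2 ⟨fun h => ?_, fun j hj hv => ?_⟩, hmz i _ (hu i hi).2, ?_⟩
      · exact (hu i hi).1 ((x i).injective (hxT i hi _ (hDT _ h)))
      · by_cases hji : j = i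
        · subst hji
          rcases (hY j hj _).1 hv with h | h
          · exact hsc1 j hj h
          · exact hsc3 j hj h.symm
        · have h1 := hYs j hj _ hv
          apply h1
          refine hdis i hi j hj (Ne.symm hji) _ fun h => (hu i hi).1 ((x i).injective h)
      · by_cases hK1 : K = {i}
        · have h1 : K.card = 1 := by rw [hK1, Finset.card_singleton]
          have h2 : ∑ i ∈ K, 2 * r i = 2 * r i := by rw [hK1, Finset.sum_singleton]
          rw [h2] at hsup
          rw [h1] at hEcard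
          have h3 := h3le i hi
          have hc3 := hs.c3
          by_cases hr3 : r i = 3
          · rcases P.eq_empty_or_nonempty with hP0 | hP0
            · have h4 : P.card = 0 := by rw [hP0, Finset.card_empty]
              by_cases hn9 : 9 ≤ Fintype.card α
              · left; omega
              · right
                have hn7 : Fintype.card α = 7 := by omega
                refine ⟨?_, hzz _⟩
                have h5 : (E ∪ Y i).card ≤ Fintype.card α := Finset.card_le_univ _
                rw [Finset.card_union_of_disjoint (by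
                  rw [Finset.disjoint_left]
                  intro v hv hv2
                  exact ((hE v).1 hv).2 i hi hv2), hYcard i hi] at h5
                omega
            · left
              have h4 := hs.c5 hP0 ⟨i, ((hKm i).1 hi).2, hr3⟩
              omega
          · left
            have h4 : r i ≠ 4 := fun h => by
              have := hx.prime i
              rw [h] at this
              exact absurd this (by norm_num)
            omega
        · left
          obtain ⟨j, hj, hji⟩ : ∃ j ∈ K, j ≠ i := by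
            by_contra hno
            push Not at hno
            exact hK1 (Finset.eq_singleton_iff_unique_mem.2 ⟨hi, hno⟩)
          have h1 : ∑ k ∈ ({i, j} : Finset ι), (2 * r k - 4) ≤ ∑ k ∈ K, (2 * r k - 4) := by
            apply Finset.sum_le_sum_of_subset
            intro k hk
            rcases Finset.mem_insert.1 hk with rfl | hk
            · exact hi
            · rw [Finset.mem_singleton.1 hk]; exact hj
          rw [Finset.sum_pair (Ne.symm hji)] at h1
          have h2 := h3le i hi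
          have h3 := h3le j hj
          have h4 : r i ≠ r j := fun h => hji (hx.inj h.symm)
          have h5 : r i ≠ 4 := fun h => by
            have := hx.prime i
            rw [h] at this
            exact absurd this (by norm_num)
          have h6 : r j ≠ 4 := fun h => by
            have := hx.prime j
            rw [h] at this
            exact absurd this (by norm_num)
          have hc3 := hs.c3
          rw [hsum4] at hsup
          omega
  have hzE : ∀ v ∈ E, z v ∈ E := by
    intro v hv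
    rw [hE] at hv ⊢
    refine ⟨fun h => hv.1 ?_, fun i hi h => hv.2 i hi ?_⟩
    · have h1 := hzT _ (hDT _ h)
      have h2 := z.injective h1
      rwa [h2] at h
    · rw [hY i hi] at h ⊢
      rcases h with h | h
      · exact Or.inl (sameCycle_apply_right.1 h)
      · exact Or.inr (sameCycle_apply_right.1 h)
  have hEcard3 : 3 ≤ E.card := by
    rcases hEE with h | ⟨h, -⟩ <;> omega
  -- kill `z`
  have hB := kill' hX (x := z) (E := E) hzE heE hze hEE (B := fun H => Bad P H ∨ ∃ i ∈ K, y i ∈ H) (by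
    rintro σ hσ H (h | ⟨j, hj, h⟩)
    · left
      refine bad_cj (fun p hp => ?_) h
      exact ⟨hσ.2 _ fun h => ((hE _).1 h).1 (hPD p hp).1, hσ.2 _ fun h => ((hE _).1 h).1 (hPD p hp).2⟩
    · right
      exact ⟨j, hj, mem_cj_altOn hσ (fun v hv => hyY j hj v (((hE v).1 hv).2 j hj)) h⟩) hA
  -- kill the others
  let Ej : ι → Finset α := fun j => Y j ∪ (E \ {e, z e})
  have hmem : ∀ j v, v ∈ Ej j ↔ v ∈ Y j ∨ (v ∈ E ∧ v ≠ e ∧ v ≠ z e) := by
    intro j v
    rw [Finset.mem_union, Finset.mem_sdiff, Finset.mem_insert, Finset.mem_singleton, not_or]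
  have hYY : ∀ j ∈ K, ∀ k ∈ K, j ≠ k → ∀ v ∈ Y j, v ∉ Y k := by
    intro j hj k hk hjk v hv hv2
    exact hYs k hk v hv2 (hdis j hj k hk hjk v (hYs j hj v hv))
  have huY : ∀ j ∈ K, u j ∈ Y j := fun j hj => (hY j hj _).2 (Or.inl (SameCycle.refl _ _))
  have hzuY : ∀ j ∈ K, z (u j) ∈ Y j := fun j hj =>
    (hY j hj _).2 (Or.inl (sameCycle_apply_right.2 (SameCycle.refl _ _)))
  have hnEj : ∀ j ∈ K, ∀ k ∈ K, j ≠ k → ∀ v ∈ Y k, v ∉ Ej j := by
    intro j hj k hk hjk v hv hv2
    rcases (hmem j v).1 hv2 with h | h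
    · exact hYY j hj k hk hjk v h hv
    · exact ((hE v).1 h.1).2 k hk hv
  have hC := killAll hX (B := fun H => Bad P H ∨ R H e (z e)) K y Ej u (fun j => z (u j))
    (by
      intro j hj
      have h1 : _root_.Disjoint (Y j) (E \ {e, z e}) := by
        rw [Finset.disjoint_left]
        intro v hv hv2
        exact ((hE v).1 (Finset.mem_sdiff.1 hv2).1).2 j hj hv
      have h2 : (E \ {e, z e}).card = E.card - 2 := by
        rw [Finset.card_sdiff_of_subset, Finset.card_pair hze.symm]
        intro v hv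
        rw [Finset.mem_insert, Finset.mem_singleton] at hv
        rcases hv with rfl | rfl
        · exact heE
        · exact hzE _ heE
      change 5 ≤ (Y j ∪ (E \ {e, z e})).card
      rw [Finset.card_union_of_disjoint h1, hYcard j hj, h2]
      omega)
    (by
      intro j hj v hv
      by_cases hvY : v ∈ Y j
      · exact (hmem j _).2 (Or.inl (altOn_apply_mem (hyalt j hj) hvY))
      · rw [hyY j hj v hvY]
        exact hv)
    (fun j hj => (hmem j _).2 (Or.inl (huY j hj))) (fun j hj => (hmem j _).2 (Or.inl (hzuY j hj)))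
    (fun j hj => (hu j hj).2.symm)
    (by
      intro j hj h
      change (z.cycleOf (u j) * z.cycleOf (w j)) (u j) = u j at h
      rw [Perm.mul_apply, cy_fix (fun h => hsc2 j hj h.symm), cy_sc (SameCycle.refl _ _)] at h
      exact (hu j hj).2 h)
    (by
      intro j hj k hk hjk v hv
      apply hyY k hk
      intro h
      exact hnEj j hj k hk hjk v h hv)
    (fun j hj k hk hjk => ⟨hnEj j hj k hk hjk _ (huY k hk), hnEj j hj k hk hjk _ (hzuY k hk)⟩)
    (by
      rintro j hj σ hσ H (h | h)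
      · left
        refine bad_cj (fun p hp => ?_) h
        have h1 : ∀ v ∈ D, v ∉ Ej j := by
          intro v hv hv2
          rcases (hmem j v).1 hv2 with h | h
          · exact hYs j hj v h (hxT j hj v (hDT v hv))
          · exact ((hE v).1 h.1).1 hv
        exact ⟨hσ.2 _ (h1 _ (hPD p hp).1), hσ.2 _ (h1 _ (hPD p hp).2)⟩
      · right
        have h1 : ∀ v ∈ E, (v = e ∨ v = z e) → v ∉ Ej j := by
          intro v hv hv2 hv3
          rcases (hmem j v).1 hv3 with h | h
          · exact ((hE v).1 hv).2 j hj h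
          · rcases hv2 with h2 | h2
            · exact h.2.1 h2
            · exact h.2.2 h2
        exact R_cj (hσ.2 _ (h1 e heE (Or.inl rfl))) (hσ.2 _ (h1 _ (hzE e heE) (Or.inr rfl))) h)
    (by
      intro H hH
      rcases hB H hH with (h | h) | h
      · exact Or.inl (Or.inl h)
      · exact Or.inr h
      · exact Or.inl (Or.inr h))
  -- the end
  let P1 : Finset (α × α) := insert (e, z e) (K.image fun j => (u j, z (u j)))
  have hP1 : ∀ p ∈ P1, p = (e, z e) ∨ ∃ j ∈ K, p = (u j, z (u j)) := by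
    intro p hp
    rw [Finset.mem_insert, Finset.mem_image] at hp
    rcases hp with h | ⟨j, hj, h⟩
    · exact Or.inl h
    · exact Or.inr ⟨j, hj, h.symm⟩
  have hP1m : ∀ p ∈ P1, z p.1 ≠ p.1 ∧ z p.2 ≠ p.2 := by
    intro p hp
    rcases hP1 p hp with rfl | ⟨j, hj, rfl⟩
    · exact ⟨hze, fun h => hze (z.injective h)⟩
    · exact ⟨(hu j hj).2, fun h => (hu j hj).2 (z.injective h)⟩
  have hPm : ∀ p ∈ P, z p.1 = p.1 ∧ z p.2 = p.2 := fun p hp => ⟨hzT _ (hs.sub p hp).1, hzT _ (hs.sub p hp).2⟩
  have hpd : PD (P ∪ P1) := by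
    refine ⟨?_, ?_⟩
    · intro p hp
      rcases Finset.mem_union.1 hp with hp | hp
      · exact hs.pd.1 p hp
      · rcases hP1 p hp with rfl | ⟨j, hj, rfl⟩
        · exact hze.symm
        · exact (hu j hj).2.symm
    · intro p hp q hq hpq
      rcases Finset.mem_union.1 hp with hp | hp <;> rcases Finset.mem_union.1 hq with hq | hq
      · exact hs.pd.2 p hp q hq hpq
      · have h1 := hPm p hp
        have h2 := hP1m q hq
        exact ⟨fun h => h2.1 (h ▸ h1.1), fun h => h2.2 (h ▸ h1.1), fun h => h2.1 (h ▸ h1.2), fun h => h2.2 (h ▸ h1.2)⟩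
      · have h1 := hPm q hq
        have h2 := hP1m p hp
        exact ⟨fun h => h2.1 (h.symm ▸ h1.1), fun h => h2.1 (h.symm ▸ h1.2), fun h => h2.2 (h.symm ▸ h1.1),
          fun h => h2.2 (h.symm ▸ h1.2)⟩
      · have hsz : ∀ v, SameCycle z v (z v) := fun v => sameCycle_apply_right.2 (SameCycle.refl _ _)
        have hcl : ∀ p ∈ P1, ∃ c, SameCycle z c p.1 ∧ SameCycle z c p.2 ∧
            ((p = (e, z e) ∧ c = e) ∨ ∃ j ∈ K, p = (u j, z (u j)) ∧ c = u j) := by
          intro p hp
          rcases hP1 p hp with rfl | ⟨j, hj, rfl⟩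
          · exact ⟨e, SameCycle.refl _ _, hsz _, Or.inl ⟨rfl, rfl⟩⟩
          · exact ⟨u j, SameCycle.refl _ _, hsz _, Or.inr ⟨j, hj, rfl, rfl⟩⟩
        obtain ⟨c, hc1, hc2, hc⟩ := hcl p hp
        obtain ⟨d, hd1, hd2, hd⟩ := hcl q hq
        have hcd : ¬ SameCycle z c d := by
          rcases hc with ⟨rfl, rfl⟩ | ⟨j, hj, rfl, rfl⟩ <;> rcases hd with ⟨rfl, rfl⟩ | ⟨k, hk, rfl, rfl⟩
          · exact absurd rfl hpq
          · exact fun h => ((hE _).1 heE).2 k hk ((hY k hk _).2 (Or.inl h.symm))
          · exact fun h => ((hE _).1 heE).2 j hj ((hY j hj _).2 (Or.inl h))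
          · intro h
            have hjk : j ≠ k := fun h => hpq (by rw [h])
            exact hYY j hj k hk hjk (u k) ((hY j hj _).2 (Or.inl h)) (huY k hk)
        exact ⟨fun h => hcd (hc1.trans (h ▸ hd1.symm)), fun h => hcd (hc1.trans (h ▸ hd2.symm)),
          fun h => hcd (hc2.trans (h ▸ hd1.symm)), fun h => hcd (hc2.trans (h ▸ hd2.symm))⟩
  obtain ⟨H, hH, hbad⟩ := hfin _ hpd
  apply hbad
  rcases hC H hH with (⟨p, hp, h⟩ | h) | ⟨j, hj, h⟩
  · exact ⟨p, Finset.mem_union_left _ hp, h⟩
  · exact ⟨(e, z e), Finset.mem_union_right _ (Finset.mem_insert_self _ _), h⟩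
  · exact ⟨(u j, z (u j)), Finset.mem_union_right _ (Finset.mem_insert_of_mem
      (Finset.mem_image.2 ⟨j, hj, rfl⟩)), h⟩

end

end Cfsg.Agent.H555.RA
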