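import Cfsg.Agent.H555.RA.Base

/-!
# S3509, alternating socle: the cycles of an element of prime order (helper555)
-/

set_option autoImplicit false

namespace Cfsg.Agent.H555.RA

open Equiv Equiv.Perm Cfsg.Agent.H106.RC

variable {α : Type*} [Fintype α] [DecidableEq α]

theorem comm_pow_apply {x y : Perm α} (h : y * x = x * y) (i : ℤ) (u : α) : (x ^ i) (y u) = y ((x ^ i) u) := by
  have h1 : Commute y x := h
  have h2 := (h1.zpow_right i).eq
  rw [← Perm.mul_apply, ← Perm.mul_apply, h2]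

theorem sc_conj {x y : Perm α} (h : y * x = x * y) {u v : α} : SameCycle x (y u) (y v) ↔ SameCycle x u v := by
  constructor
  · rintro ⟨i, hi⟩
    rw [comm_pow_apply h] at hi
    exact ⟨i, y.injective hi⟩
  · rintro ⟨i, hi⟩
    exact ⟨i, by rw [comm_pow_apply h, hi]⟩

theorem cy_conj {x y : Perm α} (h : y * x = x * y) (u : α) : y * x.cycleOf u * y⁻¹ = x.cycleOf (y u) := by
  ext v
  obtain ⟨w, rfl⟩ : ∃ w, v = y w := ⟨y⁻¹ v, (pai y v).symm⟩
  rw [Perm.mul_apply, Perm.mul_apply, pia, cycleOf_apply, cycleOf_apply]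
  by_cases h1 : SameCycle x u w
  · rw [if_pos h1, if_pos ((sc_conj h).2 h1), ← Perm.mul_apply, ← Perm.mul_apply, h]
  · rw [if_neg h1, if_neg (fun h2 => h1 ((sc_conj h).1 h2))]

theorem cy_fix {x : Perm α} {u v : α} (h : ¬ SameCycle x u v) : x.cycleOf u v = v := by
  rw [cycleOf_apply, if_neg h]

theorem cy_sc {x : Perm α} {u v : α} (h : SameCycle x u v) : x.cycleOf u v = x v := by
  rw [cycleOf_apply, if_pos h]

theorem cy_fix' {x : Perm α} {u v : α} (h : x v = v) : x.cycleOf u v = v := by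
  rw [cycleOf_apply]
  split_ifs
  · exact h
  · rfl

theorem cy_comm (x : Perm α) (u v : α) : x.cycleOf u * x.cycleOf v = x.cycleOf v * x.cycleOf u := by
  by_cases h : SameCycle x u v
  · rw [h.cycleOf_eq]
  · ext w
    rw [Perm.mul_apply, Perm.mul_apply]
    by_cases hu : SameCycle x u w
    · have hv : ¬ SameCycle x v w := fun hv => h (hu.trans hv.symm)
      rw [cy_fix hv, cy_sc hu, cy_fix (fun hv' => hv (hv'.trans ((sameCycle_apply_left).2 (SameCycle.refl x w))))]
    · rw [cy_fix hu]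
      by_cases hv : SameCycle x v w
      · rw [cy_sc hv, cy_fix (fun hu' => hu (hu'.trans ((sameCycle_apply_left).2 (SameCycle.refl x w))))]
      · rw [cy_fix hv, cy_fix hu]

theorem cy_pow {x : Perm α} {p : ℕ} (hp : x ^ p = 1) (u : α) : x.cycleOf u ^ p = 1 :=
  orderOf_dvd_iff_pow_eq_one.1 ((orderOf_cycleOf_dvd_orderOf x u).trans (orderOf_dvd_of_pow_eq_one hp))

/-- the block of `u` -/
def blk (x : Perm α) (u : α) : Finset α := (x.cycleOf u).support

theorem mem_blk {x : Perm α} {u v : α} (hu : x u ≠ u) : v ∈ blk x u ↔ SameCycle x u v := by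
  rw [blk, mem_support_cycleOf_iff' hu]

theorem card_blk {x : Perm α} {p : ℕ} (hp : p.Prime) (hx : x ^ p = 1) {u : α} (hu : x u ≠ u) : (blk x u).card = p := by
  rw [blk, ← (isCycle_cycleOf x hu).orderOf]
  have := Fact.mk hp
  refine orderOf_eq_prime (cy_pow hx u) fun h => hu ?_
  rwa [cycleOf_eq_one_iff] at h

/-- the group generated by the cycles of `x` -/
def cyU (x : Perm α) : Subgroup (Perm α) := Subgroup.closure {c | ∃ u, c = x.cycleOf u}

theorem cy_mem (x : Perm α) (u : α) : x.cycleOf u ∈ cyU x := Subgroup.subset_closure ⟨u, rfl⟩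

theorem cyU_le {x : Perm α} {K : Subgroup (Perm α)} (h : ∀ u, x.cycleOf u ∈ K) : cyU x ≤ K := by
  rw [cyU, Subgroup.closure_le]
  rintro _ ⟨u, rfl⟩
  exact h u


section closure

variable {S : Type*} [Group S]

theorem closure_comm {k : Set S} (h : ∀ a ∈ k, ∀ b ∈ k, a * b = b * a) {u v : S} (hu : u ∈ Subgroup.closure k)
    (hv : v ∈ Subgroup.closure k) : u * v = v * u := by
  have h1 := Subgroup.isMulCommutative_closure h
  exact congrArg Subtype.val (h1.is_comm.comm ⟨u, hu⟩ ⟨v, hv⟩)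

theorem closure_pow {k : Set S} (h : ∀ a ∈ k, ∀ b ∈ k, a * b = b * a) {p : ℕ} (hp : ∀ a ∈ k, a ^ p = 1) {u : S}
    (hu : u ∈ Subgroup.closure k) : u ^ p = 1 := by
  refine Subgroup.closure_induction (p := fun u _ => u ^ p = 1) hp (one_pow p) (fun a b ha hb h1 h2 => ?_)
    (fun a _ h1 => by rw [inv_pow, h1, inv_one]) hu
  have h3 : Commute a b := closure_comm h ha hb
  rw [h3.mul_pow, h1, h2, one_mul]

theorem card_coprime {U : Subgroup S} [Finite U] {p r : ℕ} (hp : p.Prime) (hr : r.Prime) (hpr : r ≠ p)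
    (hU : ∀ u ∈ U, u ^ p = 1) : r.Coprime (Nat.card U) := by
  have := Fact.mk hp
  have h1 : IsPGroup p U := fun u => ⟨1, by
    apply Subtype.ext
    rw [pow_one]
    exact hU u u.2⟩
  obtain ⟨n, hn⟩ := IsPGroup.iff_card.1 h1
  rw [hn]
  exact Nat.Coprime.pow_right n ((Nat.coprime_primes hr hp).2 hpr)

end closure

theorem cyU_comm {x : Perm α} {u v : Perm α} (hu : u ∈ cyU x) (hv : v ∈ cyU x) : u * v = v * u := by
  refine closure_comm ?_ hu hv
  rintro _ ⟨a, rfl⟩ _ ⟨b, rfl⟩
  exact cy_comm x a b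

theorem cyU_pow {x : Perm α} {p : ℕ} (hp : x ^ p = 1) {u : Perm α} (hu : u ∈ cyU x) : u ^ p = 1 := by
  refine closure_pow ?_ ?_ hu
  · rintro _ ⟨a, rfl⟩ _ ⟨b, rfl⟩
    exact cy_comm x a b
  · rintro _ ⟨a, rfl⟩
    exact cy_pow hp a

theorem sign_of_pow {p : ℕ} (hp : Odd p) {u : Perm α} (hu : u ^ p = 1) : sign u = 1 := by
  rcases Int.units_eq_one_or (sign u) with h | h
  · exact h
  · have h1 := congrArg sign hu
    rw [map_pow, h, hp.neg_one_pow, map_one] at h1
    exact absurd h1 (by decide)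

theorem cyU_fix {x : Perm α} {u : Perm α} (hu : u ∈ cyU x) {v : α} (hv : x v = v) : u v = v := by
  have h : cyU x ≤ MulAction.stabilizer (Perm α) v := cyU_le fun a => cy_fix' hv
  exact h hu

theorem cyU_conj {x y : Perm α} (h : y * x = x * y) {u : Perm α} (hu : u ∈ cyU x) : y * u * y⁻¹ ∈ cyU x := by
  have h1 : cyU x ≤ (cyU x).comap (MulAut.conj y).toMonoidHom := cyU_le fun a => by
    change y * x.cycleOf a * y⁻¹ ∈ cyU x
    rw [cy_conj h]
    exact cy_mem x _
  exact h1 hu

/-- an element fixing the moved points of `x` commutes with `cyU x` -/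
theorem cyU_comm_fix {x : Perm α} {u : Perm α} (hu : u ∈ cyU x) {y : Perm α} (hy : ∀ v, x v ≠ v → y v = v) :
    u * y = y * u := by
  ext v
  rw [Perm.mul_apply, Perm.mul_apply]
  by_cases hv : x v = v
  · rw [cyU_fix hu hv]
    have h1 : x (y v) = y v := by
      by_contra hno
      have h2 := hy _ hno
      have h3 := y.injective h2
      rw [h3] at hno
      exact hno hv
    rw [cyU_fix hu h1]
  · rw [hy v hv]
    by_cases h2 : x (u v) = u v
    · have h3 := cyU_fix ((cyU x).inv_mem hu) h2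
      rw [pia] at h3
      rw [← h3] at h2
      exact absurd h2 hv
    · rw [hy _ h2]

/-- the key lemma on orbits -/
theorem fix_of_eq {y h : Perm α} {u : α} {a N r : ℕ} (hyr : y ^ r = 1) (hc : y * h = h * y) (hN : h ^ N = 1)
    (hr : r.Prime) (hcop : ¬ r ∣ a * N) (he : (y ^ a) u = h u) : y u = u := by
  have h1 : ∀ k : ℕ, (y ^ (a * k)) u = (h ^ k) u := by
    intro k
    induction k with
    | zero => rw [mul_zero, pow_zero, pow_zero]
    | succ k ih =>
      have hc' : Commute (y ^ (a * k)) h := (show Commute y h from hc).pow_left _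
      rw [mul_add, mul_one, pow_add, Perm.mul_apply, he, ← Perm.mul_apply, hc'.eq, Perm.mul_apply, ih,
        ← Perm.mul_apply, ← pow_succ']
  have h2 := h1 N
  rw [hN, Perm.one_apply] at h2
  have h3 : (a * N).Coprime r := ((Nat.Prime.coprime_iff_not_dvd hr).2 hcop).symm
  have h4 : ∀ k : ℕ, (y ^ (a * N * k)) u = u := by
    intro k
    induction k with
    | zero => rfl
    | succ k ih => rw [mul_add, mul_one, pow_add, Perm.mul_apply, h2, ih]
  obtain ⟨m, hm⟩ := Nat.exists_mul_mod_eq_one_of_coprime h3 hr.one_lt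
  have h5 := h4 m
  rw [← Nat.div_add_mod (a * N * m) r, hm.2, pow_add, pow_mul, hyr, one_pow, one_mul, pow_one] at h5
  exact h5

end Cfsg.Agent.H555.RA
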