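import Cfsg.Agent.H555.RA.Main

/-!
# S3509, alternating socle: transitive subgroups (helper555)

* `fin_prim` : primitive subgroups contain no three cycle;
* `fin_imp` : imprimitive subgroups;
* `fin_of` : for a transitive subgroup `H` not containing the alternating group and disjoint pairs, some conjugate of
  `H` contains no three cycle through these pairs.
-/

set_option autoImplicit false
set_option linter.unusedSectionVars false

namespace Cfsg.Agent.H555.RA

open Equiv Equiv.Perm MulAction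
open scoped Pointwise

variable {α : Type*} [Fintype α] [DecidableEq α]

theorem c3_isThreeCycle {a b c : α} (hab : a ≠ b) (hbc : b ≠ c) (hac : a ≠ c) : IsThreeCycle (c3 a b c) := by
  rw [c3, swap_comm a b]
  exact isThreeCycle_swap_mul_swap_same hab.symm hbc hac

theorem not_R_prim {H : Subgroup (Perm α)} (hp : IsPreprimitive H α) (hA : ¬ alternatingGroup α ≤ H) (u v : α) :
    ¬ R H u v := by
  rintro ⟨huv, w, hwu, hwv, h⟩
  exact hA (alternatingGroup_le_of_isPreprimitive_of_isThreeCycle_mem hp (c3_isThreeCycle huv hwv.symm hwu.symm) h)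

/-- extension of injections -/
theorem exists_perm_ext {β : Type*} (f g : β → α) (hf : Function.Injective f) (hg : Function.Injective g) :
    ∃ τ : Perm α, ∀ b, τ (f b) = g b := by
  classical
  let e : {x // x ∈ Set.range f} ≃ {x // x ∈ Set.range g} := (Equiv.ofInjective f hf).symm.trans (Equiv.ofInjective g hg)
  refine ⟨e.extendSubtype, fun b => ?_⟩
  rw [Equiv.extendSubtype_apply_of_mem e (f b) ⟨b, rfl⟩]
  have h1 : (⟨f b, ⟨b, rfl⟩⟩ : {x // x ∈ Set.range f}) = Equiv.ofInjective f hf b := rfl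
  rw [h1]
  change ((Equiv.ofInjective g hg) ((Equiv.ofInjective f hf).symm (Equiv.ofInjective f hf b)) : α) = g b
  rw [Equiv.symm_apply_apply]
  rfl

/-- coordinates for an equivalence relation with classes of the same size -/
theorem exists_coord (st : Setoid α) (a : ℕ) (ha : ∀ q : Quotient st, Nat.card {v // Quotient.mk st v = q} = a) :
    ∃ (b : ℕ) (ψ : α ≃ Fin (a * b)), b = Nat.card (Quotient st) ∧
      ∀ u v, st u v ↔ (ψ u : ℕ) % b = (ψ v : ℕ) % b := by
  classical
  let b := Nat.card (Quotient st)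
  have : Fintype (Quotient st) := Fintype.ofFinite _
  let e1 : (Σ q : Quotient st, {v // Quotient.mk st v = q}) ≃ α := Equiv.sigmaFiberEquiv (Quotient.mk st)
  have e2 : ∀ q : Quotient st, Nonempty ({v // Quotient.mk st v = q} ≃ Fin a) := fun q => by
    have := Finite.equivFin {v // Quotient.mk st v = q}
    rw [ha q] at this
    exact ⟨this⟩
  let e3 : ∀ q : Quotient st, {v // Quotient.mk st v = q} ≃ Fin a := fun q => (e2 q).some
  let e4 : Quotient st ≃ Fin b := Finite.equivFin _
  let e5 : (Σ q : Quotient st, {v // Quotient.mk st v = q}) ≃ Quotient st × Fin a :=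
    (Equiv.sigmaCongrRight e3).trans (Equiv.sigmaEquivProd _ _)
  let ψ : α ≃ Fin (a * b) := (e1.symm.trans (e5.trans ((Equiv.prodComm _ _).trans (Equiv.prodCongr (Equiv.refl _) e4)))).trans
    finProdFinEquiv
  have hψ : ∀ u, (ψ u : ℕ) % b = e4 (Quotient.mk st u) := by
    intro u
    have h1 : (ψ u : ℕ) = e4 (Quotient.mk st u) + b * (e5 (e1.symm u)).2 := rfl
    rw [h1, Nat.add_mul_mod_self_left, Nat.mod_eq_of_lt (e4 _).2]
  refine ⟨b, ψ, rfl, fun u v => ?_⟩
  rw [hψ, hψ, Fin.val_inj, e4.injective.eq_iff, Quotient.eq]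

/-- permutations with prescribed non related pairs -/
theorem exists_apart (st : Setoid α) (a : ℕ) (ha : ∀ q : Quotient st, Nat.card {v // Quotient.mk st v = q} = a)
    (ha2 : 2 ≤ a) (hb2 : 2 ≤ Nat.card (Quotient st)) {P : Finset (α × α)} (hP : PD P) :
    ∃ τ : Perm α, sign τ = 1 ∧ ∀ p ∈ P, ¬ st (τ p.1) (τ p.2) := by
  classical
  obtain ⟨b, ψ, hb, hψ⟩ := exists_coord st a ha
  let f : P × Bool → α := fun x => if x.2 then (x.1 : α × α).1 else (x.1 : α × α).2
  have hf : Function.Injective f := by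
    rintro ⟨p, i⟩ ⟨q, j⟩ h
    by_cases hpq : (p : α × α) = q
    · have hpq' : p = q := Subtype.ext hpq
      subst hpq'
      have h1 := hP.1 p p.2
      cases i <;> cases j
      · rfl
      · exact absurd h.symm h1
      · exact absurd h h1
      · rfl
    · obtain ⟨h1, h2, h3, h4⟩ := hP.2 p p.2 q q.2 hpq
      cases i <;> cases j
      · exact absurd h h4
      · exact absurd h h3
      · exact absurd h h2
      · exact absurd h h1
  have hcard : 2 * P.card ≤ a * b := by
    have h1 := Fintype.card_le_of_injective f hf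
    rw [Fintype.card_prod, Fintype.card_coe, Fintype.card_bool, Fintype.card_congr ψ, Fintype.card_fin] at h1
    omega
  let g : P × Bool → α := fun x => ψ.symm ⟨2 * (P.equivFin x.1 : ℕ) + (if x.2 then 0 else 1), by
    have := (P.equivFin x.1).2
    split_ifs <;> omega⟩
  have hg : Function.Injective g := by
    rintro ⟨p, i⟩ ⟨q, j⟩ h
    have h1 := congrArg Fin.val (ψ.symm.injective h)
    simp only at h1
    have h2 : (P.equivFin p : ℕ) = (P.equivFin q : ℕ) := by
      cases i <;> cases j <;> simp at h1 <;> omega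
    have h3 : p = q := P.equivFin.injective (Fin.ext h2)
    subst h3
    cases i <;> cases j
    · rfl
    · simp at h1
    · simp at h1
    · rfl
  obtain ⟨τ, hτ⟩ := exists_perm_ext f g hf hg
  have hτP : ∀ p ∈ P, ¬ st (τ p.1) (τ p.2) := by
    intro p hp h
    have h1 := hτ (⟨p, hp⟩, true)
    have h2 := hτ (⟨p, hp⟩, false)
    change τ p.1 = _ at h1
    change τ p.2 = _ at h2
    rw [h1, h2, hψ, Equiv.apply_symm_apply, Equiv.apply_symm_apply] at h
    simp only [if_true, Bool.false_eq_true, if_false, add_zero] at h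
    have h3 : 2 ≤ b := by rw [hb]; exact hb2
    have h4 := (Nat.modEq_iff_dvd' (Nat.le_succ _)).1 (show Nat.ModEq b _ _ from h)
    rw [Nat.succ_sub (le_refl _), Nat.sub_self] at h4
    have := Nat.le_of_dvd Nat.one_pos h4
    omega
  rcases Int.units_eq_one_or (sign τ) with hs | hs
  · exact ⟨τ, hs, hτP⟩
  · -- a transposition in a class
    obtain ⟨c, d, hcd, hcd2⟩ : ∃ c d, c ≠ d ∧ st c d := by
      obtain ⟨q⟩ : Nonempty (Quotient st) := by
        by_contra hno
        rw [not_nonempty_iff] at hno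
        rw [Nat.card_of_isEmpty] at hb2
        omega
      have h1 : 1 < Nat.card {v // Quotient.mk st v = q} := by rw [ha q]; omega
      obtain ⟨⟨c, hc⟩, ⟨d, hd⟩, h2⟩ := (Finite.one_lt_card_iff_nontrivial.1 h1).exists_pair_ne
      exact ⟨c, d, fun h => h2 (Subtype.ext h), Quotient.exact (hc.trans hd.symm)⟩
    have hsw : ∀ v, st (swap c d v) v := by
      intro v
      by_cases h1 : v = c
      · rw [h1, swap_apply_left]
        exact st.symm hcd2
      · by_cases h2 : v = d
        · rw [h2, swap_apply_right]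
          exact hcd2
        · rw [swap_apply_of_ne_of_ne h1 h2]
    refine ⟨swap c d * τ, ?_, fun p hp h => hτP p hp ?_⟩
    · rw [Perm.sign_mul, hs, sign_swap hcd]
      rfl
    · exact st.trans (st.symm (hsw _)) (st.trans h (hsw _))

theorem fin_imp {H : Subgroup (Perm α)} (htr : ∀ u v : α, ∃ h ∈ H, h u = v) (st : Setoid α)
    (hst : ∀ h ∈ H, ∀ u v, st u v → st (h u) (h v)) (h1 : ∃ u v, u ≠ v ∧ st u v) (h2 : ∃ u v, ¬ st u v)
    {P : Finset (α × α)} (hP : PD P) : ∃ σ : Perm α, sign σ = 1 ∧ ¬ Bad P (cj σ H) := by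
  classical
  obtain ⟨u0, v0, huv, hst0⟩ := h1
  have hcl : ∀ q : Quotient st, Nat.card {v // Quotient.mk st v = q} = Nat.card {v // Quotient.mk st v = Quotient.mk st u0} := by
    intro q
    obtain ⟨w, rfl⟩ := Quotient.exists_rep q
    obtain ⟨h, hh, hw⟩ := htr u0 w
    symm
    refine Nat.card_congr (h.subtypeEquiv fun v => ?_)
    rw [Quotient.eq, Quotient.eq]
    constructor
    · intro h3
      have := hst h hh _ _ h3
      rwa [hw] at this
    · intro h3
      have := hst h⁻¹ (H.inv_mem hh) _ _ h3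
      rwa [← hw, pia, pia] at this
  have ha2 : 2 ≤ Nat.card {v // Quotient.mk st v = Quotient.mk st u0} := by
    have : Nontrivial {v // Quotient.mk st v = Quotient.mk st u0} :=
      ⟨⟨u0, rfl⟩, ⟨v0, Quotient.sound (st.symm hst0)⟩, fun h => huv (congrArg Subtype.val h)⟩
    exact Finite.one_lt_card
  have hb2 : 2 ≤ Nat.card (Quotient st) := by
    obtain ⟨u, v, h3⟩ := h2
    have : Nontrivial (Quotient st) := ⟨Quotient.mk st u, Quotient.mk st v, fun h => h3 (Quotient.exact h)⟩
    exact Finite.one_lt_card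
  -- classes have another element
  have hother : ∀ u, ∃ u', u' ≠ u ∧ st u u' := by
    intro u
    obtain ⟨h, hh, hu⟩ := htr u0 u
    refine ⟨h v0, fun h3 => huv ?_, ?_⟩
    · rw [← hu] at h3
      exact (h.injective h3).symm
    · rw [← hu]
      exact hst h hh _ _ hst0
  obtain ⟨τ, hτ1, hτ2⟩ := exists_apart st _ hcl ha2 hb2 hP
  refine ⟨τ⁻¹, by rw [sign_inv, hτ1], ?_⟩
  rintro ⟨p, hp, hpq, w, hw1, hw2, h3⟩
  apply hτ2 p hp
  rw [mem_cj, inv_inv, c3_conj] at h3
  obtain ⟨a, ha⟩ : ∃ a, a = τ p.1 := ⟨_, rfl⟩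
  obtain ⟨b, hb⟩ : ∃ b, b = τ p.2 := ⟨_, rfl⟩
  obtain ⟨c, hc⟩ : ∃ c, c = τ w := ⟨_, rfl⟩
  rw [← ha, ← hb, ← hc] at h3
  have hab : a ≠ b := by rw [ha, hb]; exact fun h => hpq (τ.injective h)
  have hac : a ≠ c := by rw [ha, hc]; exact fun h => hw1 (τ.injective h).symm
  have hbc : b ≠ c := by rw [hb, hc]; exact fun h => hw2 (τ.injective h).symm
  rw [← ha, ← hb]
  obtain ⟨a', ha1, ha2'⟩ := hother a
  have h4 := hst _ h3 _ _ ha2'
  rw [c3_left hab hac] at h4
  by_cases h5 : a' = b
  · rw [h5] at ha2'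
    exact ha2'
  · by_cases h6 : a' = c
    · rw [h6, c3_right] at h4
      exact st.symm h4
    · rw [c3_apply ha1 h5 h6] at h4
      exact st.trans ha2' (st.symm h4)

/-- **Transitive subgroups** -/
theorem fin_of [Nonempty α] {H : Subgroup (Perm α)} (htr : ∀ u v : α, ∃ h ∈ H, h u = v) (hA : ¬ alternatingGroup α ≤ H)
    {P : Finset (α × α)} (hP : PD P) : ∃ σ : Perm α, sign σ = 1 ∧ ¬ Bad P (cj σ H) := by
  classical
  have hpt : IsPretransitive H α := ⟨fun u v => by
    obtain ⟨h, hh, h1⟩ := htr u v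
    exact ⟨⟨h, hh⟩, h1⟩⟩
  by_cases hpr : ∀ B : Set α, IsBlock H B → IsTrivialBlock B
  · have hp : IsPreprimitive H α := { hpt with isTrivialBlock_of_isBlock := fun {B} hB => hpr B hB }
    refine ⟨1, sign_one, ?_⟩
    rw [cj_one]
    rintro ⟨p, -, h⟩
    exact not_R_prim hp hA _ _ h
  · push Not at hpr
    obtain ⟨B, hB, hBt⟩ := hpr
    rw [IsTrivialBlock, not_or] at hBt
    have hBne : B.Nonempty := by
      by_contra hno
      rw [Set.not_nonempty_iff_eq_empty] at hno
      exact hBt.1 (by rw [hno]; exact Set.subsingleton_empty)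
    let st : Setoid α :=
      { r := fun u v => ∀ h : H, u ∈ h • B ↔ v ∈ h • B
        iseqv := ⟨fun u h => Iff.rfl, fun h1 h => (h1 h).symm, fun h1 h2 h => (h1 h).trans (h2 h)⟩ }
    have hrel : ∀ (h : H) (u v : α), u ∈ h • B → v ∈ h • B → st u v := by
      intro h u v hu hv k
      constructor
      · intro hk
        rw [← hB.smul_eq_smul_of_nonempty ⟨u, hu, hk⟩]
        exact hv
      · intro hk
        rw [← hB.smul_eq_smul_of_nonempty ⟨v, hv, hk⟩]
        exact hu
    refine fin_imp htr st ?_ ?_ ?_ hP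
    · intro h hh u v huv k
      have h1 := huv ((⟨h, hh⟩ : H)⁻¹ * k)
      rw [mul_smul, Set.mem_inv_smul_set_iff, Set.mem_inv_smul_set_iff] at h1
      exact h1
    · obtain ⟨u, hu, v, hv, huv⟩ := Set.not_subsingleton_iff.1 hBt.1
      exact ⟨u, v, huv, hrel 1 u v (by rwa [one_smul]) (by rwa [one_smul])⟩
    · obtain ⟨u, hu⟩ := hBne
      obtain ⟨w, hw⟩ : ∃ w, w ∉ B := by
        by_contra hno
        push Not at hno
        exact hBt.2 (Set.eq_univ_of_forall hno)
      refine ⟨u, w, fun h => hw ?_⟩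
      have h1 := (h 1).1 (by rwa [one_smul])
      rwa [one_smul] at h1

end Cfsg.Agent.H555.RA
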