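import Cfsg.Agent.H555.RA.Core

/-!
# S3509, alternating socle: the induction (helper555)
-/

set_option autoImplicit false
set_option linter.unusedSectionVars false

namespace Cfsg.Agent.H555.RA

open Equiv Equiv.Perm Cfsg.Agent.H106.RC

variable {α : Type*} [Fintype α] [DecidableEq α]

/-- a permutation of order three with three moved points -/
theorem eq_c3 {x : Perm α} (h3 : x ^ 3 = 1) (hc : x.support.card = 3) {v : α} (hv : x v ≠ v) :
    x = c3 v (x v) (x (x v)) ∧ x (x v) ≠ v ∧ x (x v) ≠ x v := by
  have hx3 : x (x (x v)) = v := by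
    have : (x ^ 3) v = v := by rw [h3]; rfl
    rwa [pow_succ, pow_succ, pow_one] at this
  have h1 : x (x v) ≠ v := fun h => hv (by rw [h] at hx3; exact hx3)
  have h2 : x (x v) ≠ x v := fun h => hv (x.injective h)
  have hs : x.support = {v, x v, x (x v)} := by
    symm
    apply Finset.eq_of_subset_of_card_le
    · intro w hw
      rw [Finset.mem_insert, Finset.mem_insert, Finset.mem_singleton] at hw
      rw [mem_support]
      rcases hw with rfl | rfl | rfl
      · exact hv
      · exact h2
      · exact fun h => h2 (x.injective h)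
    · rw [hc, Finset.card_insert_of_notMem, Finset.card_pair h2.symm]
      rw [Finset.mem_insert, Finset.mem_singleton, not_or]
      exact ⟨hv.symm, h1.symm⟩
  refine ⟨?_, h1, h2⟩
  ext w
  by_cases hw : w ∈ x.support
  · rw [hs, Finset.mem_insert, Finset.mem_insert, Finset.mem_singleton] at hw
    rcases hw with rfl | rfl | rfl
    · rw [c3_left hv.symm h1.symm]
    · rw [c3_mid h2.symm h1.symm]
    · rw [c3_right, hx3]
  · have hw' := hw
    rw [hs, Finset.mem_insert, Finset.mem_insert, Finset.mem_singleton, not_or, not_or] at hw'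
    rw [notMem_support.1 hw, c3_apply hw'.1 hw'.2.1 hw'.2.2]

section

variable {ι : Type*} [Finite ι] [DecidableEq ι] {X : Set (Subgroup (Perm α))} {x : ι → Perm α} {r : ι → ℕ}

/-- a member which is a three cycle -/
theorem step3 (hx : PF x r) {s : Finset ι} {P : Finset (α × α)} {T : Finset α} (hs : St X x r s P T)
    {i : ι} (hi : i ∈ s) (hodd : r i ≠ 2) (hc : (x i).support.card = 3)
    (hJ : ∀ j ∈ s, j ≠ i → ∀ v, x i v ≠ v → x j v = v) :
    ∃ P' : Finset (α × α), St X x r (s.erase i) P' (T ∪ (x i).support) := by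
  obtain ⟨v, hv⟩ : ∃ v, x i v ≠ v := by
    by_contra hno
    push Not at hno
    exact hx.ne i (Equiv.ext hno)
  have hr : r i = 3 := by
    apply odd_three hx hodd
    rw [← card_blk (hx.prime i) (hx.pow i) hv]
    have h1 : blk (x i) v ⊆ (x i).support := by
      intro w hw
      rw [mem_blk hv] at hw
      rw [mem_support]
      exact fun h => hv ((hw.apply_eq_self_iff).2 h)
    have := Finset.card_le_card h1
    omega
  have h3 : x i ^ 3 = 1 := by rw [← hr]; exact hx.pow i
  obtain ⟨h4, h5, h6⟩ := eq_c3 h3 hc hv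
  have hTs : ∀ v ∈ T, x i v = v := hs.fix i hi
  have hne : ∀ a b, x i a ≠ a → x i b = b → a ≠ b := fun a b ha hb h => ha (h ▸ hb)
  have hPm : ∀ p ∈ P, x i p.1 = p.1 ∧ x i p.2 = p.2 := fun p hp => ⟨hTs _ (hs.sub p hp).1, hTs _ (hs.sub p hp).2⟩
  have hdisj : _root_.Disjoint T (x i).support := by
    rw [Finset.disjoint_left]
    intro v hv hv2
    exact (mem_support.1 hv2) (hTs v hv)
  refine ⟨insert (v, x i v) P, ⟨?_, ⟨?_, ?_⟩, ?_, ?_, ?_, ?_⟩⟩
  · intro H hH
    rcases hs.cov H hH with ⟨p, hp, h⟩ | ⟨j, hj, h⟩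
    · exact Or.inl ⟨p, Finset.mem_insert_of_mem hp, h⟩
    · by_cases hji : j = i
      · left
        refine ⟨(v, x i v), Finset.mem_insert_self _ _, hv.symm, x i (x i v), h5, h6, ?_⟩
        rw [hji, h4] at h
        exact h
      · exact Or.inr ⟨j, Finset.mem_erase.2 ⟨hji, hj⟩, h⟩
  · intro p hp
    rcases Finset.mem_insert.1 hp with rfl | hp
    · exact hv.symm
    · exact hs.pd.1 p hp
  · intro p hp q hq hpq
    rcases Finset.mem_insert.1 hp with rfl | hp <;> rcases Finset.mem_insert.1 hq with rfl | hq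
    · exact absurd rfl hpq
    · have h1 := hPm q hq
      exact ⟨hne _ _ hv h1.1, hne _ _ hv h1.2, hne _ _ h6 h1.1, hne _ _ h6 h1.2⟩
    · have h1 := hPm p hp
      exact ⟨(hne _ _ hv h1.1).symm, (hne _ _ h6 h1.1).symm, (hne _ _ hv h1.2).symm, (hne _ _ h6 h1.2).symm⟩
    · exact hs.pd.2 p hp q hq hpq
  · intro p hp
    rcases Finset.mem_insert.1 hp with rfl | hp
    · exact ⟨Finset.mem_union_right _ (mem_support.2 hv), Finset.mem_union_right _ (mem_support.2 h6)⟩
    · exact ⟨Finset.mem_union_left _ (hs.sub p hp).1, Finset.mem_union_left _ (hs.sub p hp).2⟩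
  · intro j hj w hw
    rw [Finset.mem_erase] at hj
    rcases Finset.mem_union.1 hw with hw | hw
    · exact hs.fix j hj.2 w hw
    · exact hJ j hj.2 hj.1 w (mem_support.1 hw)
  · rw [Finset.card_union_of_disjoint hdisj, hc]
    have h1 := hs.c3
    have h2 := Finset.card_insert_le (v, x i v) P
    omega
  · rintro - ⟨k, hk, hk3⟩
    rw [Finset.mem_erase] at hk
    exact absurd (hx.inj (hk3.trans hr.symm)) hk.1

/-- **The core theorem.** -/
theorem core (hX : Cl X) (hn : 7 ≤ Fintype.card α) (hn8 : Fintype.card α ≠ 8)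
    (hfin : ∀ P : Finset (α × α), PD P → ∃ H ∈ X, ¬ Bad P H) (hx : PF x r)
    (hcov : ∀ H ∈ X, ∃ i, x i ∈ H) : False := by
  classical
  have : Nonempty α := Fintype.card_pos_iff.1 (by omega)
  have key : ∀ (n : ℕ) (s : Finset ι), s.card = n → ∀ (P : Finset (α × α)) (T : Finset α), St X x r s P T → False := by
    intro n
    induction n using Nat.strong_induction_on with
    | _ n ih =>
      intro s hsn P T hs
      by_cases hgood : ∃ i ∈ s, r i ≠ 2 ∧ ¬ ∃ j, r j = 2 ∧ s.filter (fun j => j ≠ i ∧ ¬ ∀ v, x i v ≠ v → x j v = v) = {j}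
      · obtain ⟨i, hi, hodd, hbad⟩ := hgood
        obtain ⟨u, hu⟩ := exists_star hx i (s.filter (fun j => j ≠ i ∧ ¬ ∀ v, x i v ≠ v → x j v = v)) (by
          intro j hj
          rw [Finset.mem_filter] at hj
          refine ⟨hj.2.1, ?_⟩
          have h := hj.2.2
          push Not at h
          exact h)
        rcases dicho hx hodd (fun j hj => ((Finset.mem_filter.1 hj).2).1) hu with h | ⟨h1, h2⟩ | ⟨j, h1, h2, -⟩
        · obtain ⟨P', hP'⟩ := step (s' := s.filter (fun j => j ≠ i ∧ ∀ v, x i v ≠ v → x j v = v))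
            (J := s.filter (fun j => j ≠ i ∧ ¬ ∀ v, x i v ≠ v → x j v = v)) hX hx hs hi hodd
            (fun j => Finset.mem_filter) (fun j => Finset.mem_filter) hu.toStar (E := E0 x i _ u) h.1 h.2
            (fun v hv => (mem_E0.1 hv).1) (fun v hv => E0_sc (sameCycle_apply_right.2 (SameCycle.refl _ _)) hv)
            (fun v hv => (mem_E0.1 hv).2)
          refine ih _ ?_ _ rfl P' _ hP'
          rw [← hsn]
          apply Finset.card_lt_card
          refine Finset.ssubset_iff_subset_ne.2 ⟨Finset.filter_subset _ _, fun h3 => ?_⟩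
          have h4 := hi
          rw [← h3, Finset.mem_filter] at h4
          exact h4.2.1 rfl
        · obtain ⟨P', hP'⟩ := step3 hx hs hi hodd h2 (by
            intro j hj hji
            by_contra hno
            have h3 : j ∈ s.filter (fun j => j ≠ i ∧ ¬ ∀ v, x i v ≠ v → x j v = v) :=
              Finset.mem_filter.2 ⟨hj, hji, hno⟩
            rw [h1] at h3
            exact absurd h3 (Finset.notMem_empty j))
          refine ih _ ?_ _ rfl P' _ hP'
          rw [← hsn]
          exact Finset.card_erase_lt_of_mem hi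
        · exact hbad ⟨j, h1, h2⟩
      · have hgood : ∀ i ∈ s, r i ≠ 2 →
            ∃ j, r j = 2 ∧ s.filter (fun j => j ≠ i ∧ ¬ ∀ v, x i v ≠ v → x j v = v) = {j} :=
          fun i hi h => by_contra fun hno => hgood ⟨i, hi, h, hno⟩
        rcases s.eq_empty_or_nonempty with rfl | ⟨i0, hi0⟩
        · obtain ⟨H, hH, hb⟩ := hfin P hs.pd
          rcases hs.cov H hH with h | ⟨i, hi, -⟩
          · exact hb h
          · exact absurd hi (Finset.notMem_empty i)
        · obtain ⟨i₂, hi₂, hr2⟩ : ∃ i₂ ∈ s, r i₂ = 2 := by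
            by_cases h0 : r i0 = 2
            · exact ⟨i0, hi0, h0⟩
            · obtain ⟨j, hj, hj2⟩ := hgood i0 hi0 h0
              have h1 : j ∈ s.filter (fun j => j ≠ i0 ∧ ¬ ∀ v, x i0 v ≠ v → x j v = v) := by
                rw [hj2]; exact Finset.mem_singleton_self j
              exact ⟨j, (Finset.mem_filter.1 h1).1, hj⟩
          refine last hX hn hn8 hfin hx hs hi₂ hr2 fun i hi hii => ?_
          have hodd : r i ≠ 2 := fun h => hii (hx.inj (h.trans hr2.symm))
          obtain ⟨j, hj, hj2⟩ := hgood i hi hodd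
          have hji : j = i₂ := hx.inj (hj.trans hr2.symm)
          subst hji
          constructor
          · have h1 : j ∈ s.filter (fun j => j ≠ i ∧ ¬ ∀ v, x i v ≠ v → x j v = v) := by
              rw [hj2]; exact Finset.mem_singleton_self j
            have h2 := (Finset.mem_filter.1 h1).2.2
            push Not at h2
            exact h2
          · intro k hk hkj hki
            by_contra hno
            have h1 : k ∈ s.filter (fun j => j ≠ i ∧ ¬ ∀ v, x i v ≠ v → x j v = v) :=
              Finset.mem_filter.2 ⟨hk, hki, hno⟩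
            rw [hj2, Finset.mem_singleton] at h1
            exact hkj h1
  let _ : Fintype ι := Fintype.ofFinite ι
  refine key _ Finset.univ rfl ∅ ∅ ⟨fun H hH => ?_, ⟨?_, ?_⟩, ?_, ?_, ?_, ?_⟩
  · obtain ⟨i, hi⟩ := hcov H hH
    exact Or.inr ⟨i, Finset.mem_univ i, hi⟩
  · intro p hp
    exact absurd hp (Finset.notMem_empty p)
  · intro p hp
    exact absurd hp (Finset.notMem_empty p)
  · intro p hp
    exact absurd hp (Finset.notMem_empty p)
  · intro i _ v hv
    exact absurd hv (Finset.notMem_empty v)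
  · rw [Finset.card_empty, Finset.card_empty]
  · intro h
    exact absurd h (by simp)

end

end Cfsg.Agent.H555.RA
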