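import Cfsg.Agent.H555.RA.Fin

/-!
# S3509, alternating socle: regular points for transitive stabilisers (helper555)

* `reg_trans` : `L` a transitive subgroup of `Sym n` not containing `Alt n`, `n = 7` or `n ≥ 9`; every cyclic subgroup of
  `Sym n` has trivial intersection with a conjugate of `L` by an even permutation.
-/

set_option autoImplicit false

namespace Cfsg.Agent.H555.RA

open Equiv Equiv.Perm MulAction Cfsg.Agent.H106.RC

/-- a nontrivial element of `⟨g⟩` generates an element `g ^ (n / q)` -/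
theorem exists_prime_mem {G : Type*} [Group G] [Finite G] {g z : G} (hz : z ∈ Subgroup.zpowers g) (hz1 : z ≠ 1) :
    ∃ q ∈ (orderOf g).primeFactors, g ^ (orderOf g / q) ∈ Subgroup.zpowers z := by
  obtain ⟨q, hq, hqd⟩ := Nat.exists_prime_and_dvd (n := orderOf z) (fun h => hz1 (orderOf_eq_one_iff.1 h))
  have hzg : orderOf z ∣ orderOf g := orderOf_dvd_of_mem_zpowers hz
  have hqg : q ∈ (orderOf g).primeFactors :=
    Nat.mem_primeFactors.2 ⟨hq, hqd.trans hzg, (orderOf_pos g).ne'⟩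
  refine ⟨q, hqg, ?_⟩
  obtain ⟨k, rfl⟩ := hz
  set n := orderOf g with hn
  have hnpos : 0 < n := orderOf_pos g
  have hz' : ∃ m : ℕ, g ^ m = g ^ k := by
    have := (isOfFinOrder_of_finite g).mem_powers_iff_mem_zpowers.2 (Subgroup.zpow_mem_zpowers g k)
    exact this
  obtain ⟨m, hm⟩ := hz'
  have hqd' : q ∣ n / n.gcd m := by
    have h2 : orderOf (g ^ m) = n / n.gcd m := orderOf_pow g
    have h3 : q ∣ orderOf (g ^ m) := by
      rw [hm]; exact hqd
    rwa [h2] at h3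
  have h4 : n.gcd m ∣ n / q := by
    obtain ⟨t, ht⟩ := hqd'
    have h5 : n = n.gcd m * (q * t) := by
      rw [← ht, Nat.mul_div_cancel' (Nat.gcd_dvd_left n m)]
    refine ⟨t, ?_⟩
    conv_lhs => rw [h5]
    rw [show n.gcd m * (q * t) = q * (n.gcd m * t) by ring]
    exact Nat.mul_div_cancel_left _ hq.pos
  obtain ⟨t, ht⟩ := h4
  have h6 : g ^ (n.gcd m) ∈ Subgroup.zpowers (g ^ m) := by
    refine ⟨n.gcdB m, ?_⟩
    show (g ^ m) ^ (n.gcdB m) = g ^ (n.gcd m)
    have h7 := Nat.gcd_eq_gcd_ab n m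
    have h8 : g ^ ((n.gcd m : ℕ) : ℤ) = g ^ ((n : ℤ) * n.gcdA m + (m : ℤ) * n.gcdB m) := by
      rw [h7]
    rw [zpow_natCast, zpow_add, zpow_mul, zpow_mul, zpow_natCast, zpow_natCast, hn,
      pow_orderOf_eq_one, one_zpow, one_mul] at h8
    exact h8.symm
  show g ^ (n / q) ∈ Subgroup.zpowers (g ^ k)
  rw [ht, pow_mul, ← hm]
  exact Subgroup.pow_mem _ h6 t

/-- the prime order powers of `g` -/
theorem pf_powers {G : Type*} [Group G] [Finite G] (g : G) :
    PF (fun q : {q // q ∈ (orderOf g).primeFactors} => g ^ (orderOf g / q.1)) (fun q => q.1) := by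
  have hy0 : ∀ i : {q // q ∈ (orderOf g).primeFactors}, orderOf (g ^ (orderOf g / i.1)) = i.1 := by
    intro i
    have hp := Nat.prime_of_mem_primeFactors i.2
    have hd := Nat.dvd_of_mem_primeFactors i.2
    have hpos := orderOf_pos g
    rw [orderOf_pow' g (Nat.div_pos (Nat.le_of_dvd hpos hd) hp.pos).ne']
    have h1 : (orderOf g).gcd (orderOf g / i.1) = orderOf g / i.1 :=
      Nat.gcd_eq_right (Nat.div_dvd_of_dvd hd)
    rw [h1, Nat.div_div_self hd hpos.ne']
  refine ⟨fun i => Nat.prime_of_mem_primeFactors i.2, fun i j hij => Subtype.ext hij, fun i => ?_, fun i h1 => ?_,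
    fun i j => (Commute.pow_pow_self g _ _)⟩
  · have := pow_orderOf_eq_one (g ^ (orderOf g / i.1))
    rwa [hy0] at this
  · have h2 := hy0 i
    rw [h1, orderOf_one] at h2
    exact (Nat.prime_of_mem_primeFactors i.2).one_lt.ne h2

/-- **Main theorem on symmetric groups.** -/
theorem reg_trans {α : Type*} [Fintype α] [DecidableEq α] (hn : 7 ≤ Fintype.card α) (h8 : Fintype.card α ≠ 8)
    {L : Subgroup (Equiv.Perm α)} (hT : MulAction.IsPretransitive L α) (hA : ¬ alternatingGroup α ≤ L)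
    (g : Equiv.Perm α) : ∃ s ∈ alternatingGroup α, ∀ z ∈ Subgroup.zpowers g, s * z * s⁻¹ ∈ L → z = 1 := by
  classical
  have : Nonempty α := Fintype.card_pos_iff.1 (by omega)
  by_contra hno
  push Not at hno
  let X : Set (Subgroup (Perm α)) := {H | ∃ σ : Perm α, sign σ = 1 ∧ H = cj σ L}
  refine core (X := X) (x := fun q : {q // q ∈ (orderOf g).primeFactors} => g ^ (orderOf g / q.1))
    (r := fun q => q.1) ?_ hn h8 ?_ (pf_powers g) ?_
  · rintro σ hσ _ ⟨τ, hτ, rfl⟩
    exact ⟨σ * τ, by rw [Perm.sign_mul, hσ, hτ, one_mul], cj_cj σ τ L⟩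
  · intro P hP
    obtain ⟨σ, hσ, h⟩ := fin_of (fun u v => by
      obtain ⟨⟨h, hh⟩, h1⟩ := hT.exists_smul_eq u v
      exact ⟨h, hh, h1⟩) hA hP
    exact ⟨_, ⟨σ, hσ, rfl⟩, h⟩
  · rintro _ ⟨σ, hσ, rfl⟩
    obtain ⟨z, hz, hzL, hz1⟩ := hno σ⁻¹ (by rw [mem_alternatingGroup, sign_inv, hσ])
    rw [inv_inv] at hzL
    obtain ⟨q, hq, hqz⟩ := exists_prime_mem hz hz1
    have h1 : Subgroup.zpowers z ≤ cj σ L := by
      rw [Subgroup.zpowers_le, mem_cj]
      exact hzL
    exact ⟨⟨q, hq⟩, h1 hqz⟩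

end Cfsg.Agent.H555.RA
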