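import Cfsg.Agent.H555.RA.Cyc

/-!
# S3509, alternating socle: the elimination step (helper555)

* `St` : the state of the induction;
* `killAll` : the kill rule for several members;
* `step` : elimination of a member of odd order and of the members which share its support.
-/

set_option autoImplicit false
set_option linter.unusedSectionVars false

namespace Cfsg.Agent.H555.RA

open Equiv Equiv.Perm Cfsg.Agent.H106.RC

variable {α : Type*} [Fintype α] [DecidableEq α]

/-- pairwise disjoint pairs -/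
def PD (P : Finset (α × α)) : Prop :=
  (∀ p ∈ P, p.1 ≠ p.2) ∧ ∀ p ∈ P, ∀ q ∈ P, p ≠ q → p.1 ≠ q.1 ∧ p.1 ≠ q.2 ∧ p.2 ≠ q.1 ∧ p.2 ≠ q.2

/-- `H` contains a three cycle through one of the pairs -/
def Bad (P : Finset (α × α)) (H : Subgroup (Perm α)) : Prop := ∃ p ∈ P, R H p.1 p.2

/-- state of the induction -/
structure St {ι : Type*} (X : Set (Subgroup (Perm α))) (x : ι → Perm α) (r : ι → ℕ) (s : Finset ι)
    (P : Finset (α × α)) (T : Finset α) : Prop where
  cov : ∀ H ∈ X, Bad P H ∨ ∃ i ∈ s, x i ∈ H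
  pd : PD P
  sub : ∀ p ∈ P, p.1 ∈ T ∧ p.2 ∈ T
  fix : ∀ i ∈ s, ∀ v ∈ T, x i v = v
  c3 : 3 * P.card ≤ T.card
  c5 : P.Nonempty → (∃ i ∈ s, r i = 3) → 2 * P.card + 3 ≤ T.card

theorem bad_cj {P : Finset (α × α)} {H : Subgroup (Perm α)} {σ : Perm α} (h : ∀ p ∈ P, σ p.1 = p.1 ∧ σ p.2 = p.2)
    (hb : Bad P (cj σ H)) : Bad P H := by
  obtain ⟨p, hp, h1⟩ := hb
  exact ⟨p, hp, R_cj (h p hp).1 (h p hp).2 h1⟩

theorem mem_cj_altOn {E : Finset α} {σ y : Perm α} {H : Subgroup (Perm α)} (hσ : σ ∈ altOn E) (hy : ∀ v ∈ E, y v = v)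
    (h : y ∈ cj σ H) : y ∈ H := mem_of_cj_comm (altOn_comm hσ hy) h

omit [Fintype α] [DecidableEq α] in
theorem sc_inv {f : Perm α} {u v : α} : SameCycle f u (f⁻¹ v) ↔ SameCycle f u v := by
  have h := sameCycle_apply_right (f := f) (x := u) (y := f⁻¹ v)
  rw [pai] at h
  exact h.symm

/-- the kill rule for several members -/
theorem killAll {ι : Type*} [DecidableEq ι] {X : Set (Subgroup (Perm α))} (hX : Cl X)
    {B : Subgroup (Perm α) → Prop} (J : Finset ι) (y : ι → Perm α) (E : ι → Finset α) (a b : ι → α)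
    (hE : ∀ j ∈ J, 5 ≤ (E j).card) (hinv : ∀ j ∈ J, ∀ v ∈ E j, y j v ∈ E j) (ha : ∀ j ∈ J, a j ∈ E j)
    (hb : ∀ j ∈ J, b j ∈ E j) (hab : ∀ j ∈ J, a j ≠ b j) (hmove : ∀ j ∈ J, y j (a j) ≠ a j)
    (hfix : ∀ j ∈ J, ∀ k ∈ J, j ≠ k → ∀ v ∈ E j, y k v = v)
    (hnot : ∀ j ∈ J, ∀ k ∈ J, j ≠ k → a k ∉ E j ∧ b k ∉ E j)
    (hB : ∀ j ∈ J, ∀ σ ∈ altOn (E j), ∀ H, B (cj σ H) → B H)
    (hcov : ∀ H ∈ X, B H ∨ ∃ j ∈ J, y j ∈ H) : ∀ H ∈ X, B H ∨ ∃ j ∈ J, R H (a j) (b j) := by
  have key : ∀ K : Finset ι, K ⊆ J → ∀ H ∈ X, (B H ∨ (∃ j ∈ K, R H (a j) (b j))) ∨ ∃ j ∈ J \ K, y j ∈ H := by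
    intro K
    induction K using Finset.induction_on with
    | empty =>
      intro _ H hH
      rcases hcov H hH with h | ⟨j, hj, h⟩
      · exact Or.inl (Or.inl h)
      · exact Or.inr ⟨j, by rwa [Finset.sdiff_empty], h⟩
    | insert k K hk ih =>
      intro hK H hH
      have hkJ : k ∈ J := hK (Finset.mem_insert_self k K)
      have hKJ : K ⊆ J := fun j hj => hK (Finset.mem_insert_of_mem hj)
      have h1 := kill (x := y k) (B := fun H => (B H ∨ (∃ j ∈ K, R H (a j) (b j))) ∨ ∃ j ∈ J \ insert k K, y j ∈ H)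
        (E := E k) (e := a k) hX (hE k hkJ) (hinv k hkJ) (ha k hkJ) (hmove k hkJ) (by
          rintro σ hσ H ((h | ⟨j, hj, h⟩) | ⟨j, hj, h⟩)
          · exact Or.inl (Or.inl (hB k hkJ σ hσ H h))
          · left; right
            have hjk : k ≠ j := fun h => hk (h ▸ hj)
            have h2 := hnot k hkJ j (hKJ hj) hjk
            exact ⟨j, hj, R_cj (hσ.2 _ h2.1) (hσ.2 _ h2.2) h⟩
          · right
            rw [Finset.mem_sdiff, Finset.mem_insert, not_or] at hj
            exact ⟨j, by rw [Finset.mem_sdiff, Finset.mem_insert, not_or]; exact hj,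
              mem_cj_altOn hσ (hfix k hkJ j hj.1 (Ne.symm hj.2.1)) h⟩) (by
          intro H hH
          rcases ih hKJ H hH with h | ⟨j, hj, h⟩
          · exact Or.inl (Or.inl h)
          · rw [Finset.mem_sdiff] at hj
            by_cases hjk : j = k
            · right; rw [← hjk]; exact h
            · left; right
              exact ⟨j, by rw [Finset.mem_sdiff, Finset.mem_insert, not_or]; exact ⟨hj.1, hjk, hj.2⟩, h⟩)
      rcases h1 H hH with ((h | ⟨j, hj, h⟩) | h) | h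
      · exact Or.inl (Or.inl h)
      · exact Or.inl (Or.inr ⟨j, Finset.mem_insert_of_mem hj, h⟩)
      · exact Or.inr h
      · left; right
        refine ⟨k, Finset.mem_insert_self k K, R_of_altOn ?_ h (ha k hkJ) (hb k hkJ) (hab k hkJ)⟩
        have := hE k hkJ
        omega
  intro H hH
  rcases key J (Finset.Subset.refl J) H hH with h | ⟨j, hj, -⟩
  · exact h
  · rw [Finset.sdiff_self] at hj
    exact absurd hj (Finset.notMem_empty j)

section step

variable {ι : Type*} [Finite ι] [DecidableEq ι] {X : Set (Subgroup (Perm α))} {x : ι → Perm α} {r : ι → ℕ}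

/-- **First part of the step**: replacement by products of two cycles -/
theorem stepA (hX : Cl X) (hx : PF x r) {s : Finset ι} {P : Finset (α × α)} {T : Finset α} (hs : St X x r s P T)
    {i : ι} (hi : i ∈ s) (hodd : r i ≠ 2) (u : ι → α) {s' J : Finset ι}
    (hs' : ∀ j ∈ s, j ≠ i → (∀ v, x i v ≠ v → x j v = v) → j ∈ s')
    (hJ : ∀ j ∈ s, j ≠ i → (¬ ∀ v, x i v ≠ v → x j v = v) → j ∈ J)
    (hs'2 : ∀ j ∈ s', ∀ v, x i v ≠ v → x j v = v) :
    ∀ H ∈ X, (Bad P H ∨ (∃ j ∈ s', x j ∈ H) ∨ ∃ j ∈ J, (x i).cycleOf (u j) * ((x i).cycleOf (x j (u j)))⁻¹ ∈ H) ∨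
      x i ∈ H := by
  intro H hH
  by_contra hno
  rw [not_or, not_or, not_or] at hno
  obtain ⟨⟨hb, hns, hnJ⟩, hni⟩ := hno
  have hpodd : Odd (r i) := (hx.prime i).odd_of_ne_two hodd
  -- the members which are not in `s'`
  let κ : Type _ := {j : ι // j ∈ s ∧ j ∉ s'}
  have hcov : ∀ g ∈ cyU (x i), ∃ j : κ, g⁻¹ * x j * g ∈ H := by
    intro g hg
    have h1 := hX g (sign_of_pow hpodd (cyU_pow (hx.pow i) hg)) H hH
    rcases hs.cov _ h1 with h | ⟨j, hj, h⟩
    · exfalso
      apply hb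
      refine bad_cj (fun p hp => ?_) h
      have h2 := hs.sub p hp
      exact ⟨cyU_fix hg (hs.fix i hi _ h2.1), cyU_fix hg (hs.fix i hi _ h2.2)⟩
    · by_cases hj' : j ∈ s'
      · exfalso
        apply hns
        exact ⟨j, hj', mem_of_cj_comm (cyU_comm_fix hg (hs'2 j hj')) h⟩
      · exact ⟨⟨j, hj, hj'⟩, mem_cj.1 h⟩
  obtain ⟨⟨j, hj, hj'⟩, h1⟩ := cover_cj (x := fun j : κ => x j) (r := fun j : κ => r j) (U := cyU (x i))
    (fun j => hx.prime j) (fun j => hx.pow j) (fun j k => hx.comm j k) hcov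
    (fun j g hg => cyU_conj (hx.comm _ _) hg) (fun g hg k hk => cyU_comm hg hk) (by
      intro j k hj hk
      have h2 : ∀ j : κ, ¬ (r j).Coprime (Nat.card (cyU (x i))) → (j : ι) = i := by
        intro j hj
        by_contra hji
        apply hj
        exact card_coprime (hx.prime i) (hx.prime j) (fun h => hji (hx.inj h)) fun g hg => cyU_pow (hx.pow i) hg
      exact Subtype.ext ((h2 j hj).trans (h2 k hk).symm))
  have hxH : x j ∈ H := by
    have := h1 1 (cyU (x i)).one_mem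
    rwa [inv_one, one_mul, mul_one] at this
  by_cases hji : j = i
  · rw [hji] at hxH
    exact hni hxH
  · have hjJ : j ∈ J := hJ j hj hji fun h => hj' (hs' j hj hji h)
    apply hnJ
    refine ⟨j, hjJ, ?_⟩
    have h2 := h1 ((x i).cycleOf (u j))⁻¹ ((cyU (x i)).inv_mem (cy_mem _ _))
    have h3 := H.mul_mem h2 (H.inv_mem hxH)
    change (((x i).cycleOf (u j))⁻¹)⁻¹ * x j * ((x i).cycleOf (u j))⁻¹ * (x j)⁻¹ ∈ H at h3
    have h4 : (((x i).cycleOf (u j))⁻¹)⁻¹ * x j * ((x i).cycleOf (u j))⁻¹ * (x j)⁻¹ =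
        (x i).cycleOf (u j) * (x j * (x i).cycleOf (u j) * (x j)⁻¹)⁻¹ := by group
    rwa [h4, cy_conj (hx.comm j i)] at h3

/-- star shaped choice of the points `u j` -/
structure Star (x : ι → Perm α) (i : ι) (J : Finset ι) (u : ι → α) : Prop where
  h1 : ∀ j ∈ J, x i (u j) ≠ u j
  h2 : ∀ j ∈ J, ∀ k ∈ J, ¬ SameCycle (x i) (u k) (x j (u j))
  h3 : ∀ j ∈ J, ∀ k ∈ J, j ≠ k → ¬ SameCycle (x i) (x j (u j)) (x k (u k))

/-- **The step.** -/
theorem step (hX : Cl X) (hx : PF x r) {s : Finset ι} {P : Finset (α × α)} {T : Finset α} (hs : St X x r s P T)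
    {i : ι} (hi : i ∈ s) (hodd : r i ≠ 2) {u : ι → α} {s' J : Finset ι}
    (hs' : ∀ j, j ∈ s' ↔ j ∈ s ∧ j ≠ i ∧ ∀ v, x i v ≠ v → x j v = v)
    (hJ : ∀ j, j ∈ J ↔ j ∈ s ∧ j ≠ i ∧ ¬ ∀ v, x i v ≠ v → x j v = v)
    (hu : Star x i J u) {E : Finset α} (hE : 5 ≤ E.card) (hpE : r i ≤ E.card) (hE1 : ∀ v ∈ E, x i v ≠ v)
    (hE2 : ∀ v ∈ E, x i v ∈ E) (hE3 : ∀ v ∈ E, ∀ j ∈ J, ¬ SameCycle (x i) (u j) v ∧ ¬ SameCycle (x i) (x j (u j)) v) :
    ∃ P' : Finset (α × α), St X x r s' P' (T ∪ (x i).support) := by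
  have hp := hx.prime i
  have hxp := hx.pow i
  have hA := stepA hX hx hs hi hodd u (s' := s') (J := J) (fun j h1 h2 h3 => (hs' j).2 ⟨h1, h2, h3⟩)
    (fun j h1 h2 h3 => (hJ j).2 ⟨h1, h2, h3⟩) (fun j hj => ((hs' j).1 hj).2.2)
  have hmv : ∀ j ∈ J, x i (x j (u j)) ≠ x j (u j) := by
    intro j hj h
    apply hu.h1 j hj
    apply (x j).injective
    rw [← Perm.mul_apply, hx.comm j i, Perm.mul_apply, h]
  have hTs : ∀ v ∈ T, x i v = v := hs.fix i hi
  -- a pair in `E`
  obtain ⟨e, he⟩ : ∃ e, e ∈ E := Finset.card_pos.1 (by omega)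
  have heT : ∀ v ∈ E, v ∉ T := fun v hv hvT => hE1 v hv (hTs v hvT)
  -- kill `x i`
  have hB := kill (x := x i) (E := E) (e := e) hX hE hE2 he (hE1 e he) (by
    rintro σ hσ H (h | ⟨j, hj, h⟩ | ⟨j, hj, h⟩)
    · left
      refine bad_cj (fun p hp => ?_) h
      exact ⟨hσ.2 _ fun h => heT _ h (hs.sub p hp).1, hσ.2 _ fun h => heT _ h (hs.sub p hp).2⟩
    · right; left
      exact ⟨j, hj, mem_cj_altOn hσ (fun v hv => ((hs' j).1 hj).2.2 v (hE1 v hv)) h⟩
    · right; right
      refine ⟨j, hj, mem_cj_altOn hσ (fun v hv => ?_) h⟩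
      rw [Perm.mul_apply, Perm.inv_eq_iff_eq.2 (cy_fix (hE3 v hv j hj).2).symm, cy_fix (hE3 v hv j hj).1]) hA
  -- kill the others
  let Ej : ι → Finset α := fun j => blk (x i) (x j (u j)) ∪ (E \ {e, x i e})
  have hmem : ∀ j ∈ J, ∀ v, v ∈ Ej j ↔ SameCycle (x i) (x j (u j)) v ∨ (v ∈ E ∧ v ≠ e ∧ v ≠ x i e) := by
    intro j hj v
    rw [Finset.mem_union, mem_blk (hmv j hj), Finset.mem_sdiff, Finset.mem_insert, Finset.mem_singleton, not_or]
  have hEjT : ∀ j ∈ J, ∀ v ∈ Ej j, x i v ≠ v := by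
    intro j hj v hv
    rcases (hmem j hj v).1 hv with h | h
    · rintro h2
      exact hmv j hj ((h.apply_eq_self_iff).2 h2)
    · exact hE1 v h.1
  have hsc : ∀ v, SameCycle (x i) v (x i v) := fun v => (sameCycle_apply_right).2 (SameCycle.refl _ v)
  have hC := killAll hX (B := fun H => (Bad P H ∨ ∃ j ∈ s', x j ∈ H) ∨ R H e (x i e)) J
    (fun j => (x i).cycleOf (u j) * ((x i).cycleOf (x j (u j)))⁻¹) Ej (fun j => x i (x j (u j))) (fun j => x j (u j))
    (by
      intro j hj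
      have h1 : _root_.Disjoint (blk (x i) (x j (u j))) (E \ {e, x i e}) := by
        rw [Finset.disjoint_left]
        intro v hv hv2
        rw [mem_blk (hmv j hj)] at hv
        rw [Finset.mem_sdiff] at hv2
        exact (hE3 v hv2.1 j hj).2 hv
      have h2 : (E \ {e, x i e}).card = E.card - 2 := by
        rw [Finset.card_sdiff_of_subset, Finset.card_pair (hE1 e he).symm]
        intro v hv
        rw [Finset.mem_insert, Finset.mem_singleton] at hv
        rcases hv with rfl | rfl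
        · exact he
        · exact hE2 e he
      change 5 ≤ (blk (x i) (x j (u j)) ∪ (E \ {e, x i e})).card
      rw [Finset.card_union_of_disjoint h1, card_blk hp hxp (hmv j hj), h2]
      have := hp.two_le
      omega)
    (by
      intro j hj v hv
      rw [hmem j hj] at hv ⊢
      rcases hv with hv | hv
      · left
        have h1 : ((x i).cycleOf (x j (u j)))⁻¹ v = (x i)⁻¹ v := by
          rw [Perm.inv_eq_iff_eq, cy_sc ((sc_inv).2 hv), pai]
        have h2 : ¬ SameCycle (x i) (u j) ((x i)⁻¹ v) := fun h =>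
          hu.h2 j hj j hj (((sc_inv).1 h).trans hv.symm)
        rw [Perm.mul_apply, h1, cy_fix h2]
        exact (sc_inv).2 hv
      · right
        have h1 : ((x i).cycleOf (x j (u j)))⁻¹ v = v := by
          rw [Perm.inv_eq_iff_eq, cy_fix (hE3 v hv.1 j hj).2]
        rw [Perm.mul_apply, h1, cy_fix (hE3 v hv.1 j hj).1]
        exact hv)
    (fun j hj => (hmem j hj _).2 (Or.inl (hsc _))) (fun j hj => (hmem j hj _).2 (Or.inl (SameCycle.refl _ _)))
    (fun j hj => hmv j hj)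
    (by
      intro j hj
      have h1 : ((x i).cycleOf (x j (u j)))⁻¹ (x i (x j (u j))) = x j (u j) := by
        rw [Perm.inv_eq_iff_eq, cy_sc (SameCycle.refl _ _)]
      rw [Perm.mul_apply, h1, cy_fix (hu.h2 j hj j hj)]
      exact (hmv j hj).symm)
    (by
      intro j hj k hk hjk v hv
      rw [hmem j hj] at hv
      rcases hv with hv | hv
      · have h1 : ((x i).cycleOf (x k (u k)))⁻¹ v = v := by
          rw [Perm.inv_eq_iff_eq, cy_fix (fun h => hu.h3 j hj k hk hjk (hv.trans h.symm))]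
        rw [Perm.mul_apply, h1, cy_fix (fun h => hu.h2 j hj k hk (h.trans hv.symm))]
      · have h1 : ((x i).cycleOf (x k (u k)))⁻¹ v = v := by
          rw [Perm.inv_eq_iff_eq, cy_fix (hE3 v hv.1 k hk).2]
        rw [Perm.mul_apply, h1, cy_fix (hE3 v hv.1 k hk).1])
    (by
      intro j hj k hk hjk
      have h1 : ∀ w, SameCycle (x i) (x k (u k)) w → w ∉ Ej j := by
        intro w hw h
        rcases (hmem j hj w).1 h with h | h
        · exact hu.h3 j hj k hk hjk (h.trans hw.symm)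
        · exact (hE3 w h.1 k hk).2 hw
      exact ⟨h1 _ (hsc _), h1 _ (SameCycle.refl _ _)⟩)
    (by
      rintro j hj σ hσ H ((h | ⟨k, hk, h⟩) | h)
      · left; left
        refine bad_cj (fun p hp => ?_) h
        exact ⟨hσ.2 _ fun h => hEjT j hj _ h (hTs _ (hs.sub p hp).1),
          hσ.2 _ fun h => hEjT j hj _ h (hTs _ (hs.sub p hp).2)⟩
      · left; right
        exact ⟨k, hk, mem_cj_altOn hσ (fun v hv => ((hs' k).1 hk).2.2 v (hEjT j hj v hv)) h⟩
      · right
        have h1 : ∀ w ∈ E, (w = e ∨ w = x i e) → w ∉ Ej j := by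
          intro w hw hw2 h
          rcases (hmem j hj w).1 h with h | h
          · exact (hE3 w hw j hj).2 h
          · rcases hw2 with h2 | h2
            · exact h.2.1 h2
            · exact h.2.2 h2
        exact R_cj (hσ.2 _ (h1 e he (Or.inl rfl))) (hσ.2 _ (h1 _ (hE2 e he) (Or.inr rfl))) h)
    (by
      intro H hH
      rcases hB H hH with (h | h | h) | h
      · exact Or.inl (Or.inl (Or.inl h))
      · exact Or.inl (Or.inl (Or.inr h))
      · exact Or.inr h
      · exact Or.inl (Or.inr (R_of_altOn (by omega) h he (hE2 e he) (hE1 e he).symm)))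
  -- the new pairs
  let P1 : Finset (α × α) := insert (e, x i e) (J.image fun j => (x i (x j (u j)), x j (u j)))
  have hP1 : ∀ p ∈ P1, p = (e, x i e) ∨ ∃ j ∈ J, p = (x i (x j (u j)), x j (u j)) := by
    intro p hp
    rw [Finset.mem_insert, Finset.mem_image] at hp
    rcases hp with h | ⟨j, hj, h⟩
    · exact Or.inl h
    · exact Or.inr ⟨j, hj, h.symm⟩
  have hP1m : ∀ p ∈ P1, x i p.1 ≠ p.1 ∧ x i p.2 ≠ p.2 := by
    intro p hp
    rcases hP1 p hp with rfl | ⟨j, hj, rfl⟩
    · exact ⟨hE1 e he, hE1 _ (hE2 e he)⟩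
    · exact ⟨fun h => hmv j hj ((x i).injective h), hmv j hj⟩
  have hPm : ∀ p ∈ P, x i p.1 = p.1 ∧ x i p.2 = p.2 := fun p hp =>
    ⟨hTs _ (hs.sub p hp).1, hTs _ (hs.sub p hp).2⟩
  have hdisj : _root_.Disjoint T (x i).support := by
    rw [Finset.disjoint_left]
    intro v hv hv2
    exact (mem_support.1 hv2) (hTs v hv)
  have hcardP : (P ∪ P1).card ≤ P.card + (1 + J.card) := by
    refine (Finset.card_union_le _ _).trans (Nat.add_le_add_left ?_ _)
    refine (Finset.card_insert_le _ _).trans ?_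
    rw [add_comm]
    exact Nat.add_le_add_left Finset.card_image_le 1
  -- size of the support
  have hsupp : (1 + J.card) * r i ≤ (x i).support.card := by
    have h1 : (J.biUnion fun j => blk (x i) (x j (u j))).card = J.card * r i := by
      rw [Finset.card_biUnion, Finset.sum_congr rfl fun j hj => card_blk hp hxp (hmv j hj), Finset.sum_const,
        smul_eq_mul]
      intro j hj k hk hjk
      rw [Function.onFun, Finset.disjoint_left]
      intro v hv hv2
      rw [mem_blk (hmv j hj)] at hv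
      rw [mem_blk (hmv k hk)] at hv2
      exact hu.h3 j hj k hk hjk (hv.trans hv2.symm)
    have h2 : _root_.Disjoint E (J.biUnion fun j => blk (x i) (x j (u j))) := by
      rw [Finset.disjoint_left]
      intro v hv hv2
      rw [Finset.mem_biUnion] at hv2
      obtain ⟨j, hj, hv2⟩ := hv2
      rw [mem_blk (hmv j hj)] at hv2
      exact (hE3 v hv j hj).2 hv2
    have h3 : E ∪ (J.biUnion fun j => blk (x i) (x j (u j))) ⊆ (x i).support := by
      intro v hv
      rw [Finset.mem_union, Finset.mem_biUnion] at hv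
      rw [mem_support]
      rcases hv with hv | ⟨j, hj, hv⟩
      · exact hE1 v hv
      · rw [mem_blk (hmv j hj)] at hv
        rintro h2
        exact hmv j hj ((hv.apply_eq_self_iff).2 h2)
    have h4 := Finset.card_le_card h3
    rw [Finset.card_union_of_disjoint h2, h1] at h4
    calc (1 + J.card) * r i = r i + J.card * r i := by ring
      _ ≤ E.card + J.card * r i := Nat.add_le_add_right hpE _
      _ ≤ _ := h4
  refine ⟨P ∪ P1, ⟨?_, ⟨?_, ?_⟩, ?_, ?_, ?_, ?_⟩⟩
  · intro H hH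
    rcases hC H hH with ((⟨p, hp, h⟩ | h) | h) | ⟨j, hj, h⟩
    · exact Or.inl ⟨p, Finset.mem_union_left _ hp, h⟩
    · exact Or.inr h
    · exact Or.inl ⟨(e, x i e), Finset.mem_union_right _ (Finset.mem_insert_self _ _), h⟩
    · exact Or.inl ⟨(x i (x j (u j)), x j (u j)), Finset.mem_union_right _ (Finset.mem_insert_of_mem
        (Finset.mem_image.2 ⟨j, hj, rfl⟩)), h⟩
  · intro p hp
    rcases Finset.mem_union.1 hp with hp | hp
    · exact hs.pd.1 p hp
    · rcases hP1 p hp with rfl | ⟨j, hj, rfl⟩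
      · exact (hE1 e he).symm
      · exact hmv j hj
  · intro p hp q hq hpq
    rcases Finset.mem_union.1 hp with hp | hp <;> rcases Finset.mem_union.1 hq with hq | hq
    · exact hs.pd.2 p hp q hq hpq
    · have h1 := hPm p hp
      have h2 := hP1m q hq
      exact ⟨fun h => h2.1 (h ▸ h1.1), fun h => h2.2 (h ▸ h1.1), fun h => h2.1 (h ▸ h1.2), fun h => h2.2 (h ▸ h1.2)⟩
    · have h1 := hPm q hq
      have h2 := hP1m p hp
      exact ⟨fun h => h2.1 (h.symm ▸ h1.1), fun h => h2.1 (h.symm ▸ h1.2), fun h => h2.2 (h.symm ▸ h1.1),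
        fun h => h2.2 (h.symm ▸ h1.2)⟩
    · have hcl : ∀ p ∈ P1, ∃ c, SameCycle (x i) c p.1 ∧ SameCycle (x i) c p.2 ∧
          ((p = (e, x i e) ∧ c = e) ∨ ∃ j ∈ J, p = (x i (x j (u j)), x j (u j)) ∧ c = x j (u j)) := by
        intro p hp
        rcases hP1 p hp with rfl | ⟨j, hj, rfl⟩
        · exact ⟨e, SameCycle.refl _ _, hsc _, Or.inl ⟨rfl, rfl⟩⟩
        · exact ⟨x j (u j), hsc _, SameCycle.refl _ _, Or.inr ⟨j, hj, rfl, rfl⟩⟩
      obtain ⟨c, hc1, hc2, hc⟩ := hcl p hp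
      obtain ⟨d, hd1, hd2, hd⟩ := hcl q hq
      have hcd : ¬ SameCycle (x i) c d := by
        rcases hc with ⟨rfl, rfl⟩ | ⟨j, hj, rfl, rfl⟩ <;> rcases hd with ⟨rfl, rfl⟩ | ⟨k, hk, rfl, rfl⟩
        · exact absurd rfl hpq
        · exact fun h => (hE3 _ he k hk).2 h.symm
        · exact fun h => (hE3 _ he j hj).2 h
        · exact hu.h3 j hj k hk (fun h => hpq (by rw [h]))
      exact ⟨fun h => hcd (hc1.trans (h ▸ hd1.symm)), fun h => hcd (hc1.trans (h ▸ hd2.symm)),
        fun h => hcd (hc2.trans (h ▸ hd1.symm)), fun h => hcd (hc2.trans (h ▸ hd2.symm))⟩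
  · intro p hp
    rcases Finset.mem_union.1 hp with hp | hp
    · exact ⟨Finset.mem_union_left _ (hs.sub p hp).1, Finset.mem_union_left _ (hs.sub p hp).2⟩
    · exact ⟨Finset.mem_union_right _ (mem_support.2 (hP1m p hp).1), Finset.mem_union_right _ (mem_support.2 (hP1m p hp).2)⟩
  · intro j hj v hv
    have h1 := (hs' j).1 hj
    rcases Finset.mem_union.1 hv with hv | hv
    · exact hs.fix j h1.1 v hv
    · exact h1.2.2 v (mem_support.1 hv)
  · rw [Finset.card_union_of_disjoint hdisj]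
    have h1 := hs.c3
    have h2 : 3 ≤ r i := by
      have := hp.two_le
      omega
    have h3 : (1 + J.card) * 3 ≤ (1 + J.card) * r i := Nat.mul_le_mul_left _ h2
    omega
  · rintro - ⟨k, hk, hk3⟩
    rw [Finset.card_union_of_disjoint hdisj]
    have h1 := (hs' k).1 hk
    have h2 : 5 ≤ r i := by
      have h3 : r i ≠ 3 := fun h => h1.2.1 (hx.inj (hk3.trans h.symm))
      have h4 : r i ≠ 4 := fun h => by
        have := hx.prime i
        rw [h] at this
        exact absurd this (by norm_num)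
      have := hp.two_le
      omega
    have h3 : (1 + J.card) * 5 ≤ (1 + J.card) * r i := Nat.mul_le_mul_left _ h2
    by_cases hne : P.Nonempty
    · have h4 := hs.c5 hne ⟨k, h1.1, hk3⟩
      omega
    · rw [Finset.not_nonempty_iff_eq_empty] at hne
      have h5 : P.card = 0 := by rw [hne, Finset.card_empty]
      omega

end step

end Cfsg.Agent.H555.RA
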